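import Cfsg.Agent.H674.SUBlock
import Cfsg.Agent.S0243
import Cfsg.Agent.S0278

/-!
# Commuting elements of `PSL₄(q)` and `PSU₄(q)` (helper563)

An element of prime order `r`, `r ∣ |SL₃(q)|` (`r ∣ |SU₃(q)|`), and the image of `diag(a, a, a, a⁻³)`.
-/

set_option autoImplicit false

namespace Cfsg.Agent.H563.KG.Kill

open Matrix Cfsg Cfsg.Agent.H674.SUBlock Cfsg.Agent.H674.SUTools Cfsg.Agent.LieClassical

/-! ### `PSL₄` -/

section SL

variable {K : Type*} [Field K]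

/-- `SL₃ → SL₄` -/
def emb : Matrix.SpecialLinearGroup (Fin 3) K →* Matrix.SpecialLinearGroup (Fin 4) K where
  toFun A := ⟨blk (d := 3) (k := 1) (A : Matrix (Fin 3) (Fin 3) K) 1, by
    rw [det_blk, Matrix.SpecialLinearGroup.det_coe, Matrix.det_one, one_mul]⟩
  map_one' := Subtype.ext (by
    show blk (d := 3) (k := 1) ((1 : Matrix.SpecialLinearGroup (Fin 3) K) : Matrix (Fin 3) (Fin 3) K) 1 = 1
    rw [Matrix.SpecialLinearGroup.coe_one, blk_one])
  map_mul' A B := Subtype.ext (by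
    show blk (d := 3) (k := 1) ((A * B : Matrix.SpecialLinearGroup (Fin 3) K) : Matrix (Fin 3) (Fin 3) K) 1 =
      blk (d := 3) (k := 1) (A : Matrix (Fin 3) (Fin 3) K) 1 * blk (d := 3) (k := 1) (B : Matrix (Fin 3) (Fin 3) K) 1
    rw [Matrix.SpecialLinearGroup.coe_mul, ← blk_mul, one_mul])

/-- the central torus of the block -/
def zz (a : Kˣ) : Matrix.SpecialLinearGroup (Fin 4) K :=
  ⟨blk (d := 3) (k := 1) ((a : K) • (1 : Matrix (Fin 3) (Fin 3) K)) (((a⁻¹ ^ 3 : Kˣ) : K) • (1 : Matrix (Fin 1) (Fin 1) K)), by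
    rw [det_blk, Matrix.det_smul, Matrix.det_smul, Matrix.det_one, Matrix.det_one, mul_one, mul_one, Fintype.card_fin,
      Fintype.card_fin, pow_one, ← Units.val_pow_eq_pow_val, ← Units.val_mul, inv_pow, mul_inv_cancel, Units.val_one]⟩

theorem zz_mul (a b : Kˣ) : zz (a * b) = zz a * zz b := by
  apply Subtype.ext
  show blk (d := 3) (k := 1) (((a * b : Kˣ) : K) • (1 : Matrix (Fin 3) (Fin 3) K))
      ((((a * b)⁻¹ ^ 3 : Kˣ) : K) • (1 : Matrix (Fin 1) (Fin 1) K)) = blk (d := 3) (k := 1) _ _ * blk (d := 3) (k := 1) _ _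
  rw [← blk_mul]
  congr 1
  · rw [smul_mul_smul_comm, one_mul, Units.val_mul]
  · rw [smul_mul_smul_comm, one_mul, ← Units.val_mul, mul_inv, mul_pow]

theorem zz_one : zz (1 : Kˣ) = 1 := by
  apply Subtype.ext
  show blk (d := 3) (k := 1) (((1 : Kˣ) : K) • (1 : Matrix (Fin 3) (Fin 3) K))
      ((((1 : Kˣ)⁻¹ ^ 3 : Kˣ) : K) • (1 : Matrix (Fin 1) (Fin 1) K)) = 1
  rw [inv_one, one_pow, Units.val_one, one_smul, one_smul, blk_one]

theorem zz_pow (a : Kˣ) (n : ℕ) : zz a ^ n = zz (a ^ n) := by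
  induction n with
  | zero => rw [pow_zero, pow_zero, zz_one]
  | succ n ih => rw [pow_succ, ih, pow_succ, zz_mul]

theorem zz_comm (a : Kˣ) (A : Matrix.SpecialLinearGroup (Fin 3) K) : Commute (emb A) (zz a) := by
  apply Subtype.ext
  show blk (d := 3) (k := 1) (A : Matrix (Fin 3) (Fin 3) K) 1 * blk (d := 3) (k := 1) _ _ =
    blk (d := 3) (k := 1) _ _ * blk (d := 3) (k := 1) (A : Matrix (Fin 3) (Fin 3) K) 1
  rw [← blk_mul, ← blk_mul]
  congr 1
  · rw [mul_smul_comm, smul_mul_assoc, mul_one, one_mul]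
  · rw [one_mul, mul_one]

theorem center_emb {A : Matrix.SpecialLinearGroup (Fin 3) K}
    (h : emb A ∈ Subgroup.center (Matrix.SpecialLinearGroup (Fin 4) K)) : A = 1 := by
  obtain ⟨c, -, h1⟩ := Matrix.SpecialLinearGroup.mem_center_iff.1 h
  have h2 : blk (d := 3) (k := 1) (A : Matrix (Fin 3) (Fin 3) K) (1 : Matrix (Fin 1) (Fin 1) K) =
      Matrix.scalar (Fin 4) c := h1.symm
  have h3 : c = 1 := by
    have h4 := congrFun (congrFun h2 (Fin.natAdd 3 (0 : Fin 1))) (Fin.natAdd 3 (0 : Fin 1))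
    rw [blk_natAdd, Matrix.one_apply_eq, Matrix.scalar_apply, Matrix.diagonal_apply_eq] at h4
    exact h4.symm
  subst h3
  rw [map_one] at h2
  have h4 : blk (d := 3) (k := 1) (A : Matrix (Fin 3) (Fin 3) K) (1 : Matrix (Fin 1) (Fin 1) K) =
      blk (d := 3) (k := 1) (1 : Matrix (Fin 3) (Fin 3) K) 1 := by
    rw [h2]; exact (blk_one (F := K) (d := 3) (k := 1)).symm
  exact Subtype.ext (blk_inj h4).1

theorem center_zz {a : Kˣ} (h : zz a ∈ Subgroup.center (Matrix.SpecialLinearGroup (Fin 4) K)) : a ^ 4 = 1 := by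
  obtain ⟨c, -, h1⟩ := Matrix.SpecialLinearGroup.mem_center_iff.1 h
  have h2 : blk (d := 3) (k := 1) ((a : K) • (1 : Matrix (Fin 3) (Fin 3) K))
      (((a⁻¹ ^ 3 : Kˣ) : K) • (1 : Matrix (Fin 1) (Fin 1) K)) = Matrix.scalar (Fin 4) c := h1.symm
  have h3 := congrFun (congrFun h2 (Fin.natAdd 3 (0 : Fin 1))) (Fin.natAdd 3 (0 : Fin 1))
  have h4 := congrFun (congrFun h2 (Fin.castAdd 1 (0 : Fin 3))) (Fin.castAdd 1 (0 : Fin 3))
  rw [blk_natAdd, Matrix.smul_apply, Matrix.one_apply_eq, Matrix.scalar_apply, Matrix.diagonal_apply_eq, smul_eq_mul,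
    mul_one] at h3
  rw [blk_castAdd, Matrix.smul_apply, Matrix.one_apply_eq, Matrix.scalar_apply, Matrix.diagonal_apply_eq, smul_eq_mul,
    mul_one] at h4
  have h5 : a = a⁻¹ ^ 3 := Units.ext (h4.trans h3.symm)
  calc a ^ 4 = a ^ 3 * a := by rw [pow_succ]
    _ = a ^ 3 * a⁻¹ ^ 3 := by rw [← h5]
    _ = 1 := by rw [inv_pow, mul_inv_cancel]

/-- **`PSL₄(q)`.** -/
theorem psl4 [Fintype K] {r : ℕ} (hr : r.Prime) (hrd : r ∣ Nat.card (Matrix.SpecialLinearGroup (Fin 3) K)) :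
    ∃ x z : Matrix.ProjectiveSpecialLinearGroup (Fin 4) K, orderOf x = r ∧ Commute x z ∧
      z ^ (Fintype.card K - 1) = 1 ∧ ∀ k, z ^ k = 1 → Fintype.card K - 1 ∣ 4 * k := by
  have := Fact.mk hr
  obtain ⟨A, hA⟩ := exists_prime_orderOf_dvd_card' r hrd
  obtain ⟨a, ha⟩ := IsCyclic.exists_ofOrder_eq_natCard (α := Kˣ)
  have hcard : Nat.card Kˣ = Fintype.card K - 1 := by rw [Nat.card_units, Nat.card_eq_fintype_card]
  let π : Matrix.SpecialLinearGroup (Fin 4) K →* Matrix.ProjectiveSpecialLinearGroup (Fin 4) K := QuotientGroup.mk' _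
  have hπ : ∀ y, π y = 1 ↔ y ∈ Subgroup.center (Matrix.SpecialLinearGroup (Fin 4) K) := fun y =>
    QuotientGroup.eq_one_iff y
  refine ⟨π (emb A), π (zz a), ?_, (zz_comm a A).map π, ?_, fun k hk => ?_⟩
  · refine orderOf_eq_prime ?_ fun h => ?_
    · rw [← map_pow, ← map_pow, ← hA, pow_orderOf_eq_one, map_one, map_one]
    · rw [hπ] at h
      have h1 := center_emb h
      rw [h1, orderOf_one] at hA
      exact hr.one_lt.ne hA
  · rw [← map_pow, zz_pow, ← hcard, ← ha, pow_orderOf_eq_one, zz_one, map_one]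
  · rw [← map_pow, zz_pow, hπ] at hk
    have h1 := center_zz hk
    rw [← pow_mul] at h1
    have h2 := orderOf_dvd_of_pow_eq_one h1
    rwa [ha, hcard, mul_comm] at h2

theorem dvd_sl3 [Fintype K] {r : ℕ} (hr : r.Prime) (h1 : r ∣ Fintype.card K ^ 3 - 1) (h2 : ¬ r ∣ Fintype.card K - 1) :
    r ∣ Nat.card (Matrix.SpecialLinearGroup (Fin 3) K) := by
  have h := Cfsg.Agent.S0243.result (F := K) rfl 3 (by norm_num)
  have h3 : r ∣ Nat.gcd 3 (Fintype.card K - 1) * ((Fintype.card K - 1) *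
      Nat.card (Matrix.ProjectiveSpecialLinearGroup (Fin 3) K)) := by
    rw [h, Fin.prod_univ_succ]
    simp only [Fin.val_zero, pow_zero]
    exact h1.mul_right _
  rcases hr.dvd_mul.1 h3 with h4 | h4
  · exact absurd (h4.trans (Nat.gcd_dvd_right _ _)) h2
  rcases hr.dvd_mul.1 h4 with h5 | h5
  · exact absurd h5 h2
  · refine h5.trans ?_
    rw [Subgroup.card_eq_card_quotient_mul_card_subgroup (Subgroup.center (Matrix.SpecialLinearGroup (Fin 3) K))]
    exact Dvd.intro _ rfl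

end SL

/-! ### `PSU₄` -/

section SU

variable {F : Type*} [Field F] [Fintype F] {q : ℕ}

theorem frob_apply (hF : Fintype.card F = q ^ 2) (x : F) : GUOrder.frob hF x = x ^ q := by
  rfl

theorem isom_smul (hF : Fintype.card F = q ^ 2) {a : Fˣ} (ha : a ^ (q + 1) = 1) (k : ℕ) :
    ((a : F) • (1 : Matrix (Fin k) (Fin k) F))ᵀ * ((a : F) • (1 : Matrix (Fin k) (Fin k) F)).map (GUOrder.frob hF) = 1 := by
  rw [Matrix.smul_one_eq_diagonal, Matrix.diagonal_transpose, Matrix.diagonal_map (map_zero _),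
    Matrix.diagonal_mul_diagonal]
  have h1 : (a : F) * GUOrder.frob hF (a : F) = 1 := by
    rw [frob_apply, ← Units.val_pow_eq_pow_val, ← Units.val_mul, ← pow_succ', ha, Units.val_one]
  simp only [h1]
  exact Matrix.diagonal_one

/-- the central torus of the block -/
def zu (hF : Fintype.card F = q ^ 2) (a : Fˣ) (ha : a ^ (q + 1) = 1) : SU 4 F q :=
  mkSU hF (blk (d := 3) (k := 1) ((a : F) • (1 : Matrix (Fin 3) (Fin 3) F))
    (((a⁻¹ ^ 3 : Fˣ) : F) • (1 : Matrix (Fin 1) (Fin 1) F)))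
    (by
      rw [det_blk, Matrix.det_smul, Matrix.det_smul, Matrix.det_one, Matrix.det_one, mul_one, mul_one,
        Fintype.card_fin, Fintype.card_fin, pow_one, ← Units.val_pow_eq_pow_val, ← Units.val_mul, inv_pow,
        mul_inv_cancel, Units.val_one])
    (isom_blk hF (isom_smul hF ha 3) (isom_smul hF (by
      rw [← pow_mul, mul_comm, pow_mul, inv_pow, ha, inv_one, one_pow]) 1))

theorem cm_zu (hF : Fintype.card F = q ^ 2) (a : Fˣ) (ha : a ^ (q + 1) = 1) :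
    cm (zu hF a ha) = blk (d := 3) (k := 1) ((a : F) • (1 : Matrix (Fin 3) (Fin 3) F))
      (((a⁻¹ ^ 3 : Fˣ) : F) • (1 : Matrix (Fin 1) (Fin 1) F)) := rfl

theorem cm_zu_pow (hF : Fintype.card F = q ^ 2) (a : Fˣ) (ha : a ^ (q + 1) = 1) (n : ℕ) :
    cm (zu hF a ha ^ n) = blk (d := 3) (k := 1) (((a ^ n : Fˣ) : F) • (1 : Matrix (Fin 3) (Fin 3) F))
      ((((a ^ n)⁻¹ ^ 3 : Fˣ) : F) • (1 : Matrix (Fin 1) (Fin 1) F)) := by
  induction n with
  | zero => rw [pow_zero, map_one, pow_zero, inv_one, one_pow, Units.val_one, one_smul, one_smul, blk_one]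
  | succ n ih =>
    rw [pow_succ (zu hF a ha), map_mul, ih, cm_zu, ← blk_mul, smul_mul_smul_comm, smul_mul_smul_comm, one_mul, one_mul,
      ← Units.val_mul, ← Units.val_mul, pow_succ a, mul_inv (a ^ n), mul_pow (a ^ n)⁻¹]

/-- **`PSU₄(q)`.** -/
theorem psu4 (hF : Fintype.card F = q ^ 2) {r : ℕ} (hr : r.Prime) (hrd : r ∣ Nat.card (SU 3 F q)) :
    ∃ x z : PSU 4 F q, orderOf x = r ∧ Commute x z ∧ z ^ (q + 1) = 1 ∧ ∀ k, z ^ k = 1 → q + 1 ∣ 4 * k := by
  have := Fact.mk hr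
  obtain ⟨A, hA⟩ := exists_prime_orderOf_dvd_card' r hrd
  have hq : 2 ≤ q := by
    by_contra hcon
    have h1 : 2 ≤ Fintype.card F := Fintype.one_lt_card
    have h2 : q = 0 ∨ q = 1 := by omega
    rcases h2 with rfl | rfl <;> omega
  have hcard : Nat.card Fˣ = (q - 1) * (q + 1) := by
    rw [Nat.card_units, Nat.card_eq_fintype_card, hF]
    have := Nat.sq_sub_sq q 1
    rw [one_pow] at this
    rw [this, mul_comm]
  obtain ⟨b, hb⟩ := IsCyclic.exists_ofOrder_eq_natCard (α := Fˣ)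
  let a : Fˣ := b ^ (q - 1)
  have ha : orderOf a = q + 1 := by
    rw [orderOf_pow_of_dvd (by omega) (by rw [hb, hcard]; exact Dvd.intro _ rfl), hb, hcard,
      Nat.mul_div_cancel_left _ (by omega)]
  have ha1 : a ^ (q + 1) = 1 := by rw [← ha, pow_orderOf_eq_one]
  refine ⟨pr (ext (d := 3) hF 1 A), pr (zu hF a ha1), ?_, ?_, ?_, fun k hk => ?_⟩
  · have hinj := pr_ext_injective (d := 3) (k := 1) hF (by norm_num) one_pos
    have h1 := orderOf_injective _ hinj A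
    rw [hA] at h1
    exact h1
  · have hc : Commute (ext (d := 3) hF 1 A) (zu hF a ha1) := by
      apply cm_injective
      rw [map_mul, map_mul, cm_ext, cm_zu]
      rw [← blk_mul, ← blk_mul]
      congr 1
      · rw [mul_smul_comm, smul_mul_assoc, mul_one, one_mul]
      · rw [one_mul, mul_one]
    exact hc.map pr
  · rw [← map_pow]
    have h1 : zu hF a ha1 ^ (q + 1) = 1 := by
      apply cm_injective
      rw [cm_zu_pow, ha1, inv_one, one_pow, Units.val_one, one_smul, one_smul, blk_one, map_one]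
    rw [h1, map_one]
  · rw [← map_pow, pr_eq_one_iff] at hk
    obtain ⟨c, hc1, hc2, h1⟩ := (SUBasic.mem_center_SU_iff hF (by norm_num) _).1 hk
    have h2 : cm (zu hF a ha1 ^ k) = Matrix.diagonal (fun _ => c) := congrArg cm h1
    rw [cm_zu_pow] at h2
    have h3 := congrFun (congrFun h2 (Fin.natAdd 3 (0 : Fin 1))) (Fin.natAdd 3 (0 : Fin 1))
    have h4 := congrFun (congrFun h2 (Fin.castAdd 1 (0 : Fin 3))) (Fin.castAdd 1 (0 : Fin 3))
    rw [blk_natAdd, Matrix.smul_apply, Matrix.one_apply_eq, Matrix.diagonal_apply_eq, smul_eq_mul,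
      mul_one] at h3
    rw [blk_castAdd, Matrix.smul_apply, Matrix.one_apply_eq, Matrix.diagonal_apply_eq, smul_eq_mul,
      mul_one] at h4
    have h5 : a ^ k = (a ^ k)⁻¹ ^ 3 := Units.ext (h4.trans h3.symm)
    have h6 : a ^ (4 * k) = 1 := by
      calc a ^ (4 * k) = (a ^ k) ^ 3 * a ^ k := by rw [mul_comm 4 k, pow_mul, pow_succ]
        _ = (a ^ k) ^ 3 * (a ^ k)⁻¹ ^ 3 := by rw [← h5]
        _ = 1 := by rw [inv_pow, mul_inv_cancel]
    have h7 := orderOf_dvd_of_pow_eq_one h6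
    rwa [ha] at h7

theorem dvd_su3 (hF : Fintype.card F = q ^ 2) {r : ℕ} (hr : r.Prime) (h1 : r ∣ q ^ 3 + 1) (h2 : ¬ r ∣ q + 1) :
    r ∣ Nat.card (SU 3 F q) := by
  have h := Cfsg.Agent.S0278.result hF 3 (by norm_num)
  have h3 : r ∣ (q + 1) * Nat.card (SU 3 F q) := by
    rw [h]
    refine Dvd.dvd.mul_left ?_ _
    rw [Finset.prod_range_succ]
    refine Dvd.dvd.mul_left ?_ _
    rw [if_pos (by decide)]
    exact h1
  exact (hr.dvd_mul.1 h3).resolve_left h2

end SU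

end Cfsg.Agent.H563.KG.Kill
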