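import Cfsg.Agent.H563.KG.KF4
import Cfsg.Agent.H325.Same.ExcPair

/-!
# Subgroups of `E₈(q)` of index prime to two classes of tori (helper563)
-/

set_option autoImplicit false

namespace Cfsg.Agent.H563.KG

open Cfsg Cfsg.Agent.OrdDiv Cfsg.Agent.H436 Cfsg.Agent.H902 Cfsg.Agent.H290.ElReg Cfsg.Agent.H290.ElTab
  Cfsg.Agent.H56.Exc Cfsg.Agent.H325.Loc Cfsg.Agent.H915.GN Cfsg.Agent.H264.FKS Cfsg.Agent.H325.Same Cfsg.Agent.H325.IsoExc

theorem tbl_E8 : Tbl 248 .E8 [20, 24] 20 where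
  hn := by norm_num
  hb := bndR_248_20
  hs := svR_E8
  hbS := bndS_20
  hsS := svS_E8
  he₀ := c20
  hmem := by decide
  hle := fun _ => le_seven20

theorem card_idx_E8 : Fintype.card Lie.chevE8.Idx = 248 := by decide +kernel

section E8

variable {F : Type} [Field F] [Fintype F]

theorem named_e8 (tb : OrderTable.{0}) : IsNamed (.e8 (Fintype.card F)) ↥(Lie.chevE8.group F) := by
  refine .mk' ⟨F, inferInstance, inferInstance, rfl, ⟨MulEquiv.refl _⟩⟩ Fintype.isPrimePow_card_of_field ?_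
  change 1 * _ = _ ^ 120 * _
  rw [tb.e8 F _ rfl]; ring

omit [Fintype F] in
theorem fth_E8 : Fth 248 F ↥(Lie.chevE8.group F) := by
  have h := Fth.of (ρ := (Lie.chevE8.group F).subtype) (Lie.chevE8.group F).subtype_injective
  rwa [card_idx_E8] at h

/-- **`E₈(q)`.** A subgroup whose index is divisible by no primitive prime divisor of `q^20 - 1` or `q^24 - 1` is the
whole group. -/
theorem K_E8 (tb : OrderTable.{0}) (hcyc : CycFixSolv.{0}) (hcf : CF)
    (B : Subgroup ↥(Lie.chevE8.group F)) (hoff : Off (Fintype.card F) [20, 24] B) : B = ⊤ := by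
  obtain ⟨p, f, _, hp, hf, hq⟩ := exists_pf F
  have := Fact.mk hp
  have hfin : Finite ↥(Lie.chevE8.group F) := inferInstance
  have hT := named_e8 (F := F) tb
  rw [hq] at hT hoff
  have hq2 : 2 ≤ p ^ f := hp.two_le.trans (Nat.le_self_pow (by omega) p)
  have hq1 : 1 ≤ p ^ f := by omega
  have hOL : num (.e8 (p ^ f)) = OL .E8 (p ^ f) := rfl
  have hdT : Nat.card ↥(Lie.chevE8.group F) ∣ OL .E8 (p ^ f) := by
    rw [← hOL, ← hT.eq]
    exact Dvd.intro_left _ rfl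
  have hmem : ∀ c ∈ [20, 24], c = 20 ∨ c = 24 := by decide
  have hcl : ∀ c ∈ [20, 24], Cls c := by
    intro c hc
    have := hmem c hc
    unfold Cls
    omega
  have h7 : ∀ c ∈ [20, 24], 7 ≤ c := by decide
  have hnum : ∀ c ∈ [20, 24], ncl c (p ^ f) ∣ num (.e8 (p ^ f)) := by
    intro c hc
    have h1 : ∀ d ∈ [2, 8, 12, 14, 18, 20, 24, 30], (p ^ f) ^ d - 1 ∣ num (.e8 (p ^ f)) := by
      intro d hd
      show _ ∣ (p ^ f) ^ 120 * (((p ^ f) ^ 2 - 1) * ((p ^ f) ^ 8 - 1) * ((p ^ f) ^ 12 - 1) *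
        ((p ^ f) ^ 14 - 1) * ((p ^ f) ^ 18 - 1) * ((p ^ f) ^ 20 - 1) * ((p ^ f) ^ 24 - 1) * ((p ^ f) ^ 30 - 1))
      refine Dvd.dvd.mul_left ?_ _
      have h1 := List.dvd_prod (List.mem_map_of_mem (f := fun d => (p ^ f) ^ d - 1) hd)
      simp only [List.map_cons, List.map_nil, List.prod_cons, List.prod_nil, mul_one] at h1
      simp only [mul_assoc]
      exact h1
    refine (ncl_dvd_Ph c _).trans ((Ph_dvd (hcl c hc) hq1).trans (h1 c ?_))
    rcases hmem c hc with rfl | rfl <;> decide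
  have hnT : ∀ c ∈ [20, 24], ncl c (p ^ f) ∣ Nat.card ↥(Lie.chevE8.group F) := fun c hc =>
    ncl_dvd_card (hcl c hc) (h7 c hc) hq2 (den_pos hT.cond) (by show 1 ≤ 6; norm_num) hT.eq (hnum c hc)
  have hm20 : ((Ph 20 (p ^ f) : ℕ) : ℤ) = 1 - ((p ^ f : ℕ) : ℤ) ^ 2 + ((p ^ f : ℕ) : ℤ) ^ 4 - ((p ^ f : ℕ) : ℤ) ^ 6 +
      ((p ^ f : ℕ) : ℤ) ^ 8 := by
    rw [cast_Ph20 _ hq1]; ring
  have hm24 : ((Ph 24 (p ^ f) : ℕ) : ℤ) = 1 - ((p ^ f : ℕ) : ℤ) ^ 4 + ((p ^ f : ℕ) : ℤ) ^ 8 := by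
    rw [cast_Ph24 _ hq1]; ring
  have hbig : ∀ c ∈ [20, 24], ∀ r, Prim (p ^ f) c r → Big ↥(Lie.chevE8.group F) r (Ph c (p ^ f)) c := by
    intro c hc r hr
    rcases hmem c hc with rfl | rfl
    · exact big_E8_20 hq hm20 hr
    · exact big_E8_24 hq hm24 hr
  obtain ⟨r₀, hr₀⟩ := exists_prim hq2 (show 3 ≤ 20 by norm_num) (by norm_num)
  have hpiso : PIso p r₀ ↥(Lie.chevE8.group F) := piso_E8 (F := F) (Or.inl rfl) (by rw [hq]; exact hr₀)
  have hord : ∀ c ∈ [20, 24], Ord ↥(Lie.chevE8.group F) (p ^ f) c (Ph c (p ^ f)) :=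
    fun c hc r hr x hx => (hbig c hc r hr).card x hx
  obtain ⟨S, hSn, hSs, hSna, hnS, hidx, hbS, g, hg, hch⟩ := core tb hcyc hcf tbl_E8 (fam := [20, 24]) (fun c hc => hc)
    (M := fun c => Ph c (p ^ f)) (E := fun c => c)
    (e := 20) (e' := 24) (by decide) (by decide) (Or.inl (dist_20_24 hq2)) hcl h7 hp hf (F := F) fth_E8 hdT
    hbig (fun c hc => Ph_dvd (hcl c hc) hq1)
    (fun c hc s hs hd => le_seven' hs (n := c) (by have := hmem c hc; omega) hd)
    (by decide) hnT (c₀ := 20) (by decide) hr₀ hpiso hoff (fun t ht htp htn htB => by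
      refine good_E8 (by norm_num) hq2 ((hord 24 (by decide)).sub B) ((hord 20 (by decide)).sub B)
        ((Subgroup.card_subgroup_dvd_card B).trans hdT) ?_ ?_ ht (htn 24 (by decide)) (htn 20 (by decide))
      · exact hoff.ncl_dvd (by decide) c24 hq1 (hnT 24 (by decide))
      · exact hoff.ncl_dvd (by decide) c20 hq1 (hnT 20 (by decide)))
  have hdS : Nat.card S ∣ num (.e8 (p ^ f)) := IsNamed.card_dvd hT S
  obtain rfl := charp_e8_2024 hp hf hg.cond hch hg.eq hdS (fun s hs _ => (hbS 20 (by decide) s hs).2.2)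
    (fun s hs _ => (hbS 24 (by decide) s hs).2.2)
  exact eq_top_of_name hT hg

end E8

end Cfsg.Agent.H563.KG
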