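import Cfsg.Agent.H563.KG.KE6
import Cfsg.Agent.H325.Same.ExcRow2

/-!
# Subgroups of `F₄(q)` of index prime to two classes of tori (helper563)
-/

set_option autoImplicit false

namespace Cfsg.Agent.H563.KG

open Cfsg Cfsg.Agent.OrdDiv Cfsg.Agent.H436 Cfsg.Agent.H902 Cfsg.Agent.H290.ElReg Cfsg.Agent.H290.ElTab
  Cfsg.Agent.H56.Exc Cfsg.Agent.H325.Loc Cfsg.Agent.H915.GN Cfsg.Agent.H264.FKS Cfsg.Agent.H325.Same Cfsg.Agent.H325.IsoExc

theorem tbl_F4 : Tbl 52 .F4 [12, 8] 12 where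
  hn := by norm_num
  hb := bndR_52_12
  hs := svR_F4
  hbS := bndS_12
  hsS := svS_F4
  he₀ := c12
  hmem := by decide
  hle := fun _ => le_seven12

theorem card_idx_F4 : Fintype.card Lie.chevF4.Idx = 52 := by decide +kernel

theorem le_seven' {s : ℕ} (hs : s.Prime) {n : ℕ} (hn : n = 8 ∨ n = 12 ∨ n = 20 ∨ n = 24) (h : s ∣ n) : s ≤ 7 := by
  have h1 : s ∣ 2 ^ 3 * (3 * 5) := by
    rcases hn with rfl | rfl | rfl | rfl <;> exact h.trans (by norm_num)
  rcases hs.dvd_mul.1 h1 with h2 | h2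
  · exact (Nat.le_of_dvd (by norm_num) (hs.dvd_of_dvd_pow h2)).trans (by norm_num)
  · rcases hs.dvd_mul.1 h2 with h3 | h3
    · exact (Nat.le_of_dvd (by norm_num) h3).trans (by norm_num)
    · exact (Nat.le_of_dvd (by norm_num) h3).trans (by norm_num)

section F4

variable {F : Type} [Field F] [Fintype F]

theorem named_f4 (tb : OrderTable.{0}) : IsNamed (.f4 (Fintype.card F)) ↥(Lie.chevF4.group F) := by
  refine .mk' ⟨F, inferInstance, inferInstance, rfl, ⟨MulEquiv.refl _⟩⟩ Fintype.isPrimePow_card_of_field ?_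
  change 1 * _ = _ ^ 24 * _
  rw [tb.f4 F _ rfl]; ring

omit [Fintype F] in
theorem fth_F4 : Fth 52 F ↥(Lie.chevF4.group F) := by
  have h := Fth.of (ρ := (Lie.chevF4.group F).subtype) (Lie.chevF4.group F).subtype_injective
  rwa [card_idx_F4] at h

/-- **`F₄(q)`.** A subgroup whose index is divisible by no primitive prime divisor of `q^12 - 1` or `q^8 - 1` is the
whole group. -/
theorem K_F4 (tb : OrderTable.{0}) (hcyc : CycFixSolv.{0}) (hcf : CF)
    (B : Subgroup ↥(Lie.chevF4.group F)) (hoff : Off (Fintype.card F) [12, 8] B) : B = ⊤ := by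
  obtain ⟨p, f, _, hp, hf, hq⟩ := exists_pf F
  have := Fact.mk hp
  have hfin : Finite ↥(Lie.chevF4.group F) := inferInstance
  have hT := named_f4 (F := F) tb
  rw [hq] at hT hoff
  have hq2 : 2 ≤ p ^ f := hp.two_le.trans (Nat.le_self_pow (by omega) p)
  have hq1 : 1 ≤ p ^ f := by omega
  have hOL : num (.f4 (p ^ f)) = OL .F4 (p ^ f) := rfl
  have hdT : Nat.card ↥(Lie.chevF4.group F) ∣ OL .F4 (p ^ f) := by
    rw [← hOL, ← hT.eq]
    exact Dvd.intro_left _ rfl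
  have hmem : ∀ c ∈ [12, 8], c = 12 ∨ c = 8 := by decide
  have hcl : ∀ c ∈ [12, 8], Cls c := by
    intro c hc
    have := hmem c hc
    unfold Cls
    omega
  have h7 : ∀ c ∈ [12, 8], 7 ≤ c := by decide
  have hnum : ∀ c ∈ [12, 8], ncl c (p ^ f) ∣ num (.f4 (p ^ f)) := by
    intro c hc
    have h1 : ∀ d ∈ [2, 6, 8, 12], (p ^ f) ^ d - 1 ∣ num (.f4 (p ^ f)) := by
      intro d hd
      show _ ∣ (p ^ f) ^ 24 * (((p ^ f) ^ 2 - 1) * ((p ^ f) ^ 6 - 1) * ((p ^ f) ^ 8 - 1) * ((p ^ f) ^ 12 - 1))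
      refine Dvd.dvd.mul_left ?_ _
      have h1 := List.dvd_prod (List.mem_map_of_mem (f := fun d => (p ^ f) ^ d - 1) hd)
      simp only [List.map_cons, List.map_nil, List.prod_cons, List.prod_nil, mul_one] at h1
      simp only [mul_assoc]
      exact h1
    refine (ncl_dvd_Ph c _).trans ((Ph_dvd (hcl c hc) hq1).trans (h1 c ?_))
    rcases hmem c hc with rfl | rfl <;> decide
  have hnT : ∀ c ∈ [12, 8], ncl c (p ^ f) ∣ Nat.card ↥(Lie.chevF4.group F) := fun c hc =>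
    ncl_dvd_card (hcl c hc) (h7 c hc) hq2 (den_pos hT.cond) (by show 1 ≤ 6; norm_num) hT.eq (hnum c hc)
  have hm12 : ((Ph 12 (p ^ f) : ℕ) : ℤ) = 1 - ((p ^ f : ℕ) : ℤ) ^ 2 + ((p ^ f : ℕ) : ℤ) ^ 4 := by
    rw [cast_Ph12 _ hq1]; ring
  have hm8 : ((Ph 8 (p ^ f) : ℕ) : ℤ) = 1 + ((p ^ f : ℕ) : ℤ) ^ 4 := by
    rw [cast_Ph8]; ring
  have hbig : ∀ c ∈ [12, 8], ∀ r, Prim (p ^ f) c r → Big ↥(Lie.chevF4.group F) r (Ph c (p ^ f)) c := by
    intro c hc r hr
    rcases hmem c hc with rfl | rfl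
    · exact big_F4_12 hq hm12 hr
    · exact big_F4_8 hq hm8 hr
  obtain ⟨r₀, hr₀⟩ := exists_prim hq2 (show 3 ≤ 12 by norm_num) (by norm_num)
  have hpiso : PIso p r₀ ↥(Lie.chevF4.group F) := piso_F4 (F := F) (Or.inr rfl) (by rw [hq]; exact hr₀)
  have hord : ∀ c ∈ [12, 8], Ord ↥(Lie.chevF4.group F) (p ^ f) c (Ph c (p ^ f)) :=
    fun c hc r hr x hx => (hbig c hc r hr).card x hx
  obtain ⟨S, hSn, hSs, hSna, hnS, hidx, hbS, g, hg, hch⟩ := core tb hcyc hcf tbl_F4 (fam := [12, 8]) (fun c hc => hc)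
    (M := fun c => Ph c (p ^ f)) (E := fun c => c)
    (e := 12) (e' := 8) (by decide) (by decide) (dist_12_8 hq2) hcl h7 hp hf (F := F) fth_F4 hdT
    hbig (fun c hc => Ph_dvd (hcl c hc) hq1)
    (fun c hc s hs hd => le_seven' hs (n := c) (by have := hmem c hc; omega) hd)
    (by decide) hnT (c₀ := 12) (by decide) hr₀ hpiso hoff (fun t ht htp htn htB => by
      refine good_F4 (by norm_num) hq2 ((hord 12 (by decide)).sub B) ((hord 8 (by decide)).sub B) ?_ ?_ ht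
        (htn 12 (by decide)) (htn 8 (by decide))
      · exact hoff.ncl_dvd (by decide) c12 hq1 (hnT 12 (by decide))
      · exact hoff.ncl_dvd (by decide) c8 hq1 (hnT 8 (by decide)))
  have hdS : Nat.card S ∣ num (.f4 (p ^ f)) := IsNamed.card_dvd hT S
  rcases charp_f4 hp hf hg.cond hch hg.eq hdS (fun s hs _ => (hbS 8 (by decide) s hs).2.2)
    (fun s hs _ => (hbS 12 (by decide) s hs).2.2) with rfl | rfl
  · exact eq_top_of_name hT hg
  · exfalso
    obtain ⟨s, hs⟩ := exists_prim (q := p ^ f) (e := 8) hq2 (by norm_num) (by omega)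
    exact kill_psl3 hp hg hs (((piso_F4 (F := F) (p := p) (Or.inl rfl) (by rw [hq]; exact hs)).sub B).sub S)

end F4

end Cfsg.Agent.H563.KG
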