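import Cfsg.Agent.H563.KG.Tab
import Cfsg.Agent.H290.ElRich
import Cfsg.Agent.H192.SingerMain
import Cfsg.Agent.H264.FKS.Res

/-!
# Simple subgroups of small degree containing two classes of tori are of Lie type in the same characteristic (helper563)
-/

set_option autoImplicit false

namespace Cfsg.Agent.H563.KG

open Cfsg Cfsg.Agent.OrdDiv Cfsg.Agent.H436 Cfsg.Agent.H902 Cfsg.Agent.H902.Names Cfsg.Agent.H915.GN
  Cfsg.Agent.H290.ElReg Cfsg.Agent.H264.FKS

theorem five_le_of_cls {q e r : ℕ} (hq : 2 ≤ q) (he : 7 ≤ e) (h : Prim q e r) : 8 ≤ r := by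
  have h1 : e ∣ r - 1 := Nat.dvd_of_mod_eq_zero (mod_of_prim hq (by omega) h)
  have h2 := h.prime.two_le
  have h3 := Nat.le_of_dvd (by omega) h1
  omega

theorem sq_not_dvd_factorial {r m : ℕ} (hr : r.Prime) (h : m < 2 * r) : ¬ r ^ 2 ∣ m.factorial := by
  intro h1
  have hr2 := hr.two_le
  have hlog : Nat.log r m < 2 := by
    apply Nat.log_lt_of_lt_pow' (by norm_num)
    nlinarith
  rw [Nat.Prime.pow_dvd_factorial_iff hr hlog] at h1
  have h2 : ∑ i ∈ Finset.Ico 1 2, m / r ^ i = m / r := by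
    rw [Finset.sum_Ico_succ_top (by norm_num), Finset.Ico_self, Finset.sum_empty, zero_add, pow_one]
  rw [h2] at h1
  have h3 : m / r < 2 := Nat.div_lt_of_lt_mul (by omega)
  omega

/-- in the alternating group `A_m` the number `ncl e q` lies between `m - 3` and `m` -/
theorem window {q e m : ℕ} (hq : 2 ≤ q) (he : Cls e) (he7 : 7 ≤ e) {S : Type*} [Group S] [Finite S] (hm : 2 ≤ m)
    (Φ : S ≃* alternatingGroup (Fin m)) (hn : ncl e q ∣ Nat.card S)
    (hcen : ∀ r, Prim q e r → ∀ x : S, orderOf x = r → Group.IsNilpotent (Subgroup.centralizer ({x} : Set S))) :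
    ncl e q ≤ m ∧ m ≤ ncl e q + 3 := by
  obtain ⟨r, hr⟩ := exists_prim hq (show 3 ≤ e by omega) (by omega)
  have key : ∀ s, Prim q e s → s ≤ m ∧ m ≤ s + 3 := fun s hs => by
    have h1 : s ∣ Nat.card S := (dvd_ncl he (by omega) hs).trans hn
    have h5 := five_le_of_cls hq he7 hs
    exact ⟨Cfsg.Agent.H290.ElRich.le_of_dvd_alt hs.prime hm Φ h1,
      Cfsg.Agent.H290.ElRich.alt_le hs.prime (by omega) Φ h1 (hcen s hs)⟩
  have hmod : ∀ s, Prim q e s → e ∣ s - 1 := fun s hs => Nat.dvd_of_mod_eq_zero (mod_of_prim hq (by omega) hs)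
  have huniq : ∀ {s : ℕ}, s.Prime → s ∣ ncl e q → s = r := by
    intro s hs hsd
    have hs' := prim_of_dvd he (by omega) hs hsd
    have h1 := key s hs'
    have h2 := key r hr
    have h3 := hmod s hs'
    have h4 := hmod r hr
    have h5 := five_le_of_cls hq he7 hs'
    have h6 := five_le_of_cls hq he7 hr
    by_contra hne
    rcases Nat.lt_or_gt_of_ne hne with h | h
    · have h7 := Nat.le_of_dvd (by omega) (Nat.dvd_sub h4 h3)
      omega
    · have h7 := Nat.le_of_dvd (by omega) (Nat.dvd_sub h3 h4)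
      omega
  have hpow := Nat.eq_prime_pow_of_unique_prime_dvd (ncl_pos e (by omega : 1 ≤ q)).ne' huniq
  set k := (ncl e q).primeFactorsList.length with hk
  have hr1 : r ∣ ncl e q := dvd_ncl he (by omega) hr
  have h2 := key r hr
  have h8 := five_le_of_cls hq he7 hr
  have hk1 : k = 1 := by
    have hk0 : k ≠ 0 := by
      intro h0
      rw [h0, pow_zero] at hpow
      rw [hpow] at hr1
      exact hr.prime.one_lt.ne' (Nat.dvd_one.1 hr1)
    by_contra hk1
    have h3 : r ^ 2 ∣ ncl e q := by rw [hpow]; exact pow_dvd_pow _ (by omega)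
    have : Nontrivial (Fin m) := Fin.nontrivial_iff_two_le.2 hm
    have h4 : 2 * Nat.card S = m.factorial := by
      rw [Nat.card_congr Φ.toEquiv, Nat.card_eq_fintype_card, two_mul_card_alternatingGroup, Fintype.card_perm,
        Fintype.card_fin]
    refine sq_not_dvd_factorial hr.prime (m := m) (by omega) ?_
    rw [← h4]
    exact (h3.trans hn).mul_left _
  rw [hpow, hk1, pow_one]
  exact h2

variable {n : ℕ} {Y : Art.Sh} {cls : List ℕ} {e₀ p f : ℕ}

/-- **The name.** -/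
theorem exists_name (tb : OrderTable.{0}) (hn : n ≤ 248) (hb : bndR n e₀ = true) (hs : svR n Y cls = true) (hbS : bndS e₀ = true)
    (hsS : svS Y cls = true) (he₀ : Cls e₀) (hmem : e₀ ∈ cls) (hle : ∀ q, ncl e₀ q ≤ 2701 → q ≤ 7)
    (hp : p.Prime) (hf : 1 ≤ f) {F : Type} [Field F] [CharP F p] {S : Type} [Group S] [Finite S] [IsSimpleGroup S]
    (hna : ¬ IsMulCommutative S) (hK : IsKnownSimple' S) (hrep : Fth n F S)
    (hcls : ∀ e ∈ cls, ncl e (p ^ f) ∣ Nat.card S) (hd : Nat.card S ∣ OL Y (p ^ f))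
    {e e' : ℕ} (he : e ∈ cls) (he' : e' ∈ cls) (hcl : Cls e) (hcl' : Cls e') (he7 : 7 ≤ e) (he7' : 7 ≤ e')
    (hd4 : ncl e (p ^ f) + 4 ≤ ncl e' (p ^ f) ∨ ncl e' (p ^ f) + 4 ≤ ncl e (p ^ f))
    (hcyc : ∀ r, Prim (p ^ f) e r ∨ Prim (p ^ f) e' r → ∀ x : S, orderOf x = r → IsCyclic ↥(Subgroup.centralizer {x})) :
    ∃ g, IsNamed g S ∧ HasChar p g := by
  have hna' : ¬ ∀ a b : S, a * b = b * a := fun h => hna ⟨⟨h⟩⟩
  have hq : 2 ≤ p ^ f := hp.two_le.trans (Nat.le_self_pow (by omega) p)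
  obtain ⟨g, hgS⟩ := exists_named tb hK hna'
  rcases Cfsg.Agent.H192.Singer.cases_name hgS.cond with ⟨m, rfl⟩ | hsp | ⟨l, hl, hch⟩
  · exfalso
    obtain ⟨Φ⟩ : Nonempty (S ≃* alternatingGroup (Fin m)) := hgS.real
    have hm : 5 ≤ m := hgS.cond
    have hnil : ∀ r, Prim (p ^ f) e r ∨ Prim (p ^ f) e' r → ∀ x : S, orderOf x = r →
        Group.IsNilpotent (Subgroup.centralizer ({x} : Set S)) := by
      intro r hr x hx
      have := hcyc r hr x hx
      let _ := IsCyclic.commGroup (α := ↥(Subgroup.centralizer ({x} : Set S)))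
      infer_instance
    have h1 := window hq hcl he7 (by omega) Φ (hcls e he) fun r hr => hnil r (Or.inl hr)
    have h2 := window hq hcl' he7' (by omega) Φ (hcls e' he') fun r hr => hnil r (Or.inr hr)
    omega
  · exfalso
    have h1 := Cfsg.Agent.H192.Singer.spor_mem hsp
    have h2 : Nat.card S = ordN g := hgS.ord
    exact no_spor hbS hsS he₀ hmem hle h1 hp hf (fun e he => by rw [← h2]; exact hcls e he) (by rw [← h2]; exact hd)
  · by_cases hpl : p = l
    · subst hpl
      exact ⟨g, hgS, hch⟩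
    · exfalso
      obtain ⟨X, f₁, h1, h2, -⟩ := exists_lie hl hgS hch
      have hlF : (l : F) ≠ 0 := by
        intro h
        exact hpl ((Nat.prime_dvd_prime_iff_eq hp hl).1 ((CharP.cast_eq_zero_iff F p l).1 h))
      have h3 := lb_le hna' hn hrep h1 hgS.real h2 hlF
      exact no_cross hn hb hs he₀ hmem hle h2 h3 hp hf hpl hcls hd

end Cfsg.Agent.H563.KG
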