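import Cfsg.Agent.H563.KG.Elim
import Cfsg.Agent.H563.KG.RedW
import Cfsg.Agent.H264.FKS.Rows

/-!
# Subgroups of index prime to two classes of tori: the simple normal subgroup (helper563)

* `Off q cls B` : no primitive prime divisor of class `e ∈ cls` divides the index of `B`;
* `core` : in an exceptional group `T` of order dividing `OL Y q` a subgroup `B` which is `Off` two separated classes of
  cyclic tori has a normal simple subgroup `S`, full for these classes, of Lie type in the characteristic of `T`.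
-/

set_option autoImplicit false

namespace Cfsg.Agent.H563.KG

open Cfsg Cfsg.Agent.OrdDiv Cfsg.Agent.H436 Cfsg.Agent.H902 Cfsg.Agent.H902.Names Cfsg.Agent.H915.GN
  Cfsg.Agent.H290.ElReg Cfsg.Agent.H264.FKS Cfsg.Agent.H56.Exc Cfsg.Agent.H325.Loc

/-- no prime of the classes divides the index -/
def Off {T : Type*} [Group T] (q : ℕ) (cls : List ℕ) (B : Subgroup T) : Prop :=
  ∀ e ∈ cls, ∀ r, Prim q e r → ¬ r ∣ B.index

theorem Off.mono {T : Type*} [Group T] {q : ℕ} {cls cls' : List ℕ} {B : Subgroup T} (h : Off q cls B)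
    (hc : ∀ e ∈ cls', e ∈ cls) : Off q cls' B := fun e he => h e (hc e he)

theorem coprime_of_prim {e q n : ℕ} (he : Cls e) (hq : 1 ≤ q) (h : ∀ r, Prim q e r → ¬ r ∣ n) : Nat.Coprime (ncl e q) n := by
  by_contra hcon
  obtain ⟨r, hr, h1, h2⟩ := Nat.Prime.not_coprime_iff_dvd.1 hcon
  exact h r (prim_of_dvd he hq hr h1) h2

theorem Off.coprime {T : Type*} [Group T] {q : ℕ} {cls : List ℕ} {B : Subgroup T} (h : Off q cls B) {e : ℕ}
    (hm : e ∈ cls) (he : Cls e) (hq : 1 ≤ q) : Nat.Coprime (ncl e q) B.index :=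
  coprime_of_prim he hq (h e hm)

theorem Off.ncl_dvd {T : Type*} [Group T] {q : ℕ} {cls : List ℕ} {B : Subgroup T} (h : Off q cls B) {e : ℕ}
    (hm : e ∈ cls) (he : Cls e) (hq : 1 ≤ q) (hT : ncl e q ∣ Nat.card T) : ncl e q ∣ Nat.card B := by
  rw [← B.index_mul_card] at hT
  exact (h.coprime hm he hq).dvd_of_dvd_mul_left hT

/-- a primitive prime of class `e` is larger than `e` -/
theorem lt_of_prim {q e r : ℕ} (hq : 2 ≤ q) (he : 1 ≤ e) (h : Prim q e r) : e < r := by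
  have h1 : e ∣ r - 1 := Nat.dvd_of_mod_eq_zero (mod_of_prim hq he h)
  have h2 := h.prime.two_le
  have h3 := Nat.le_of_dvd (by omega) h1
  omega

/-- the family of big primes -/
def Fm (q : ℕ) (fam : List ℕ) (M E : ℕ → ℕ) (r m e : ℕ) : Prop := ∃ c ∈ fam, Prim q c r ∧ m = M c ∧ e = E c

theorem pr_fm {q : ℕ} {fam : List ℕ} {M E : ℕ → ℕ} {r : ℕ} : Pr (Fm q fam M E) r ↔ ∃ c ∈ fam, Prim q c r := by
  constructor
  · rintro ⟨m, e, c, hc, h, -, -⟩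
    exact ⟨c, hc, h⟩
  · rintro ⟨c, hc, h⟩
    exact ⟨M c, E c, c, hc, h, rfl, rfl⟩

variable {n : ℕ} {Y : Art.Sh} {cls fam : List ℕ} {e₀ p f : ℕ} {M E : ℕ → ℕ}

/-- the tables needed for a shape `Y` and the classes `cls` in dimension `n` -/
structure Tbl (n : ℕ) (Y : Art.Sh) (cls : List ℕ) (e₀ : ℕ) : Prop where
  hn : n ≤ 248
  hb : bndR n e₀ = true
  hs : svR n Y cls = true
  hbS : bndS e₀ = true
  hsS : svS Y cls = true
  he₀ : Cls e₀
  hmem : e₀ ∈ cls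
  hle : ∀ q, ncl e₀ q ≤ 2701 → q ≤ 7

/-- the family of big primes of a subgroup -/
theorem rfam_of {T : Type*} [Group T] [Finite T] (hp : p.Prime) (hf : 1 ≤ f)
    (hcl : ∀ c ∈ fam, Cls c) (h7 : ∀ c ∈ fam, 7 ≤ c)
    (hbig : ∀ c ∈ fam, ∀ r, Prim (p ^ f) c r → Big T r (M c) (E c)) (hM : ∀ c ∈ fam, M c ∣ (p ^ f) ^ c - 1)
    (hE : ∀ c ∈ fam, ∀ s, s.Prime → s ∣ E c → s ≤ 7) (hsep : ∀ c ∈ fam, ∃ c' ∈ fam, ¬ c' ∣ c)
    (hnT : ∀ c ∈ fam, ncl c (p ^ f) ∣ Nat.card T) {B : Subgroup T} (hoff : Off (p ^ f) fam B) :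
    RFam ↥B (Fm (p ^ f) fam M E) where
  big := by
    rintro r m e ⟨c, hc, h, rfl, rfl⟩
    exact (hbig c hc r h).subgroup B
  dvd := by
    rintro r m e ⟨c, hc, h, rfl, rfl⟩
    have hq : 1 ≤ p ^ f := Nat.one_le_pow _ _ hp.pos
    exact (dvd_ncl (hcl c hc) hq h).trans (hoff.ncl_dvd hc (hcl c hc) hq (hnT c hc))
  sep := by
    rintro r m e ⟨c, hc, h, rfl, rfl⟩ hcon
    have hq2 : 2 ≤ p ^ f := hp.two_le.trans (Nat.le_self_pow (by omega) p)
    obtain ⟨c', hc', hcc⟩ := hsep c hc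
    obtain ⟨s, hs⟩ := exists_prim hq2 (show 3 ≤ c' by have := h7 c' hc'; omega) (by have := h7 c' hc'; omega)
    have h1 : s ∣ Nat.card B :=
      (dvd_ncl (hcl c' hc') (by omega) hs).trans (hoff.ncl_dvd hc' (hcl c' hc') (by omega) (hnT c' hc'))
    rcases hs.prime.dvd_mul.1 (h1.trans hcon) with h2 | h2
    · have h3 := hE c hc s hs.prime h2
      have h4 := lt_of_prim hq2 (by have := h7 c' hc'; omega) hs
      have := h7 c' hc'
      omega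
    · exact hcc ((hs.dvd_iff c).1 (h2.trans (hM c hc)))

/-- **The simple normal subgroup.** -/
theorem core (tb : OrderTable.{0}) (hcyc : CycFixSolv.{0})
    (hcfsg : ∀ (S : Type) [Group S] [Finite S] [IsSimpleGroup S], IsKnownSimple' S)
    (ht : Tbl n Y cls e₀) (hsub : ∀ c ∈ cls, c ∈ fam) {e e' : ℕ} (hee : e ∈ cls) (hee' : e' ∈ cls)
    (hd4 : ncl e (p ^ f) + 4 ≤ ncl e' (p ^ f) ∨ ncl e' (p ^ f) + 4 ≤ ncl e (p ^ f))
    (hcl : ∀ c ∈ fam, Cls c) (h7 : ∀ c ∈ fam, 7 ≤ c)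
    (hp : p.Prime) (hf : 1 ≤ f) {F : Type} [Field F] [CharP F p]
    {T : Type} [Group T] [Finite T] (hrep : Fth n F T) (hdT : Nat.card T ∣ OL Y (p ^ f))
    (hbig : ∀ c ∈ fam, ∀ r, Prim (p ^ f) c r → Big T r (M c) (E c)) (hM : ∀ c ∈ fam, M c ∣ (p ^ f) ^ c - 1)
    (hE : ∀ c ∈ fam, ∀ s, s.Prime → s ∣ E c → s ≤ 7) (hsep : ∀ c ∈ fam, ∃ c' ∈ fam, ¬ c' ∣ c)
    (hnT : ∀ c ∈ fam, ncl c (p ^ f) ∣ Nat.card T)
    {c₀ r₀ : ℕ} (hc₀ : c₀ ∈ fam) (hr₀ : Prim (p ^ f) c₀ r₀) (hpiso : PIso p r₀ T)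
    {B : Subgroup T} (hoff : Off (p ^ f) fam B)
    (hgood : ∀ t : ℕ, t.Prime → t ≠ p → (∀ c ∈ fam, ¬ Prim (p ^ f) c t) → t ∣ Nat.card B → Good B n t) :
    ∃ (S : Subgroup B) (_ : S.Normal) (_ : IsSimpleGroup S), ¬ IsMulCommutative S ∧
      (∀ c ∈ fam, ncl c (p ^ f) ∣ Nat.card S) ∧ (∀ c ∈ fam, S.index ∣ E c * M c) ∧
      (∀ c ∈ fam, ∀ r, Prim (p ^ f) c r → Big S r (M c) (E c) ∧ ¬ r ∣ S.index ∧ r ∣ Nat.card S) ∧
      ∃ g, IsNamed g S ∧ HasChar p g := by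
  have := Fact.mk hp
  have hq2 : 2 ≤ p ^ f := hp.two_le.trans (Nat.le_self_pow (by omega) p)
  have hq1 : 1 ≤ p ^ f := by omega
  have hrf := rfam_of hp hf hcl h7 hbig hM hE hsep hnT hoff
  obtain ⟨τ, hτ⟩ := hrep.sub B.subtype B.subtype_injective
  have hr₀B : r₀ ∣ Nat.card B :=
    (dvd_ncl (hcl c₀ hc₀) hq1 hr₀).trans (hoff.ncl_dvd hc₀ (hcl c₀ hc₀) hq1 (hnT c₀ hc₀))
  have hred : Red ↥B (Pr (Fm (p ^ f) fam M E)) := by
    refine red_of hcyc hτ (fun A hA hAp => pcore_of_piso (hpiso.sub B) hr₀B A hA hAp)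
      (pr_fm.2 ⟨c₀, hc₀, hr₀⟩) hr₀.prime hr₀B
      (fun x hx => ((hbig c₀ hc₀ r₀ hr₀).subgroup B).cyc x hx) fun t ht htp htn htB => ?_
    rw [Fintype.card_fin]
    exact hgood t ht htp (fun c hc h => htn (pr_fm.2 ⟨c, hc, h⟩)) htB
  obtain ⟨S, hSn, hSs, hSna, hS⟩ :=
    hrf.exists_full hcyc hred (r₁ := r₀) (m₁ := M c₀) (e₁ := E c₀) ⟨c₀, hc₀, hr₀, rfl, rfl⟩
  have hall : ∀ c ∈ fam, ∀ r, Prim (p ^ f) c r →
      Big S r (M c) (E c) ∧ r ∣ Nat.card S ∧ ¬ r ∣ S.index ∧ S.index ∣ E c * M c :=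
    fun c hc r h => hS r (M c) (E c) ⟨c, hc, h, rfl, rfl⟩
  have hnS : ∀ c ∈ fam, ncl c (p ^ f) ∣ Nat.card S := by
    intro c hc
    have h1 := hoff.ncl_dvd hc (hcl c hc) hq1 (hnT c hc)
    rw [← S.index_mul_card] at h1
    exact (coprime_of_prim (hcl c hc) hq1 fun r h => (hall c hc r h).2.2.1).dvd_of_dvd_mul_left h1
  have hSs' : IsSimpleGroup S := hSs
  refine ⟨S, hSn, hSs, hSna, hnS, fun c hc => ?_, fun c hc r h => ⟨(hall c hc r h).1, (hall c hc r h).2.2.1,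
    (hall c hc r h).2.1⟩, ?_⟩
  · obtain ⟨r, hr⟩ := exists_prim hq2 (show 3 ≤ c by have := h7 c hc; omega) (by have := h7 c hc; omega)
    exact (hall c hc r hr).2.2.2
  · have hdS : Nat.card S ∣ OL Y (p ^ f) :=
      ((Subgroup.card_subgroup_dvd_card S).trans (Subgroup.card_subgroup_dvd_card B)).trans hdT
    refine exists_name tb ht.hn ht.hb ht.hs ht.hbS ht.hsS ht.he₀ ht.hmem ht.hle hp hf hSna (hcfsg S)
      ((hrep.sub B.subtype B.subtype_injective).sub S.subtype S.subtype_injective) (fun c hc => hnS c (hsub c hc)) hdS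
      hee hee' (hcl e (hsub e hee)) (hcl e' (hsub e' hee')) (h7 e (hsub e hee)) (h7 e' (hsub e' hee')) hd4 ?_
    · rintro r (h | h) x hx
      · exact (hall e (hsub e hee) r h).1.cyc x hx
      · exact (hall e' (hsub e' hee') r h).1.cyc x hx

end Cfsg.Agent.H563.KG
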