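import Cfsg.Agent.H563.KG.Ncl

/-!
# The numbers `ncl e q` of two classes are at distance at least four (helper563)
-/

set_option autoImplicit false

namespace Cfsg.Agent.H563.KG

variable {q : ℕ}

theorem ncl_le (e : ℕ) (hq : 1 ≤ q) : ncl e q ≤ Ph e q := Nat.le_of_dvd (Ph_pos e hq) (ncl_dvd_Ph e q)

theorem ncl_or {e : ℕ} (hc : (cc e).Prime) : (ncl e q = Ph e q) ∨ (ncl e q * cc e = Ph e q) := by
  have h1 := ncl_mul e q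
  rcases (Nat.dvd_prime hc).1 (Nat.gcd_dvd_left (cc e) (Ph e q)) with h2 | h2
  · left; rw [h2, mul_one] at h1; exact h1
  · right; rw [h2] at h1; exact h1

theorem dist_9_12 (hq : 2 ≤ q) : ncl 12 q + 4 ≤ ncl 9 q := by
  have h1 := Ph_le 9 q (by decide)
  have h2 := ncl_le 12 (show 1 ≤ q by omega)
  have h3 : 3 * (Ph 12 q + 4) ≤ Ph 9 q := by
    show 3 * ((q ^ 4 - q ^ 2 + 1) + 4) ≤ q ^ 6 + q ^ 3 + 1
    obtain ⟨k, rfl⟩ := Nat.exists_eq_add_of_le' hq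
    have h4 : 3 * (k + 2) ^ 4 + 14 ≤ (k + 2) ^ 6 + (k + 2) ^ 3 + 3 * (k + 2) ^ 2 := by
      ring_nf; omega
    have h5 : (k + 2) ^ 2 ≤ (k + 2) ^ 4 := Nat.pow_le_pow_right (by omega) (by norm_num)
    omega
  have h4 : cc 9 = 3 := rfl
  rw [h4] at h1
  omega

theorem dist_18_12 (hq : 2 ≤ q) : ncl 12 q + 4 ≤ ncl 18 q := by
  have h1 := Ph_le 18 q (by decide)
  have h2 := ncl_le 12 (show 1 ≤ q by omega)
  have h3 : 3 * (Ph 12 q + 4) ≤ Ph 18 q := by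
    show 3 * ((q ^ 4 - q ^ 2 + 1) + 4) ≤ (q ^ 6 + 1) - q ^ 3
    obtain ⟨k, rfl⟩ := Nat.exists_eq_add_of_le' hq
    have h4 : 3 * (k + 2) ^ 4 + 14 + (k + 2) ^ 3 ≤ (k + 2) ^ 6 + 3 * (k + 2) ^ 2 := by
      ring_nf; omega
    have h5 : (k + 2) ^ 2 ≤ (k + 2) ^ 4 := Nat.pow_le_pow_right (by omega) (by norm_num)
    omega
  have h4 : cc 18 = 3 := rfl
  rw [h4] at h1
  omega

theorem dist_9_14 (hq : 2 ≤ q) : ncl 9 q + 4 ≤ ncl 14 q ∨ ncl 14 q + 4 ≤ ncl 9 q := by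
  have e1 : cc 9 = 3 := rfl
  have e2 : cc 14 = 7 := rfl
  have p1 : Ph 9 q = q ^ 6 + q ^ 3 + 1 := rfl
  have p2 : Ph 14 q = (q ^ 6 + q ^ 4 + q ^ 2 + 1) - (q ^ 5 + q ^ 3 + q) := rfl
  rcases eq_or_lt_of_le hq with rfl | hq3
  · decide +kernel
  obtain ⟨k, rfl⟩ := Nat.exists_eq_add_of_le' (show 3 ≤ q from hq3)
  have a0 : (k + 3) ^ 5 + (k + 3) ^ 3 + (k + 3) ≤ (k + 3) ^ 6 + (k + 3) ^ 4 + (k + 3) ^ 2 + 1 := by ring_nf; omega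
  have a1 : (k + 3) ^ 6 + (k + 3) ^ 4 + (k + 3) ^ 2 + 1 + 4 ≤ ((k + 3) ^ 6 + (k + 3) ^ 3 + 1) +
      ((k + 3) ^ 5 + (k + 3) ^ 3 + (k + 3)) := by ring_nf; omega
  have a2 : (k + 3) ^ 6 + (k + 3) ^ 3 + 1 + 12 + 3 * ((k + 3) ^ 5 + (k + 3) ^ 3 + (k + 3)) ≤
      3 * ((k + 3) ^ 6 + (k + 3) ^ 4 + (k + 3) ^ 2 + 1) := by ring_nf; omega
  have a3 : 3 * ((k + 3) ^ 6 + (k + 3) ^ 4 + (k + 3) ^ 2 + 1) + 84 ≤
      7 * ((k + 3) ^ 6 + (k + 3) ^ 3 + 1) + 3 * ((k + 3) ^ 5 + (k + 3) ^ 3 + (k + 3)) := by ring_nf; omega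
  rcases ncl_or (e := 9) (q := k + 3) (by norm_num [cc]) with h1 | h1 <;>
    rcases ncl_or (e := 14) (q := k + 3) (by norm_num [cc]) with h2 | h2 <;>
    rw [p1] at h1 <;> rw [p2] at h2 <;> (try rw [e1] at h1) <;> (try rw [e2] at h2) <;> omega

theorem dist_7_18 (hq : 2 ≤ q) : ncl 7 q + 4 ≤ ncl 18 q ∨ ncl 18 q + 4 ≤ ncl 7 q := by
  have e1 : cc 7 = 7 := rfl
  have e2 : cc 18 = 3 := rfl
  have p1 : Ph 7 q = q ^ 6 + q ^ 5 + q ^ 4 + q ^ 3 + q ^ 2 + q + 1 := rfl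
  have p2 : Ph 18 q = (q ^ 6 + 1) - q ^ 3 := rfl
  rcases eq_or_lt_of_le hq with rfl | hq3
  · decide +kernel
  obtain ⟨k, rfl⟩ := Nat.exists_eq_add_of_le' (show 3 ≤ q from hq3)
  have a0 : (k + 3) ^ 3 ≤ (k + 3) ^ 6 := by ring_nf; omega
  have a1 : (k + 3) ^ 6 + 1 + 4 ≤ ((k + 3) ^ 6 + (k + 3) ^ 5 + (k + 3) ^ 4 + (k + 3) ^ 3 + (k + 3) ^ 2 + (k + 3) + 1) +
      (k + 3) ^ 3 := by ring_nf; omega
  have a2 : (k + 3) ^ 6 + (k + 3) ^ 5 + (k + 3) ^ 4 + (k + 3) ^ 3 + (k + 3) ^ 2 + (k + 3) + 1 + 28 + 7 * (k + 3) ^ 3 ≤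
      7 * ((k + 3) ^ 6 + 1) := by ring_nf; omega
  have a3 : 3 * ((k + 3) ^ 6 + (k + 3) ^ 5 + (k + 3) ^ 4 + (k + 3) ^ 3 + (k + 3) ^ 2 + (k + 3) + 1) + 84 + 7 * (k + 3) ^ 3 ≤
      7 * ((k + 3) ^ 6 + 1) := by ring_nf; omega
  rcases ncl_or (e := 7) (q := k + 3) (by norm_num [cc]) with h1 | h1 <;>
    rcases ncl_or (e := 18) (q := k + 3) (by norm_num [cc]) with h2 | h2 <;>
    rw [p1] at h1 <;> rw [p2] at h2 <;> (try rw [e1] at h1) <;> (try rw [e2] at h2) <;> omega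

theorem dist_12_8 (hq : 2 ≤ q) : ncl 12 q + 4 ≤ ncl 8 q ∨ ncl 8 q + 4 ≤ ncl 12 q := by
  have e1 : cc 8 = 2 := rfl
  have p1 : Ph 8 q = q ^ 4 + 1 := rfl
  have p2 : Ph 12 q = q ^ 4 - q ^ 2 + 1 := rfl
  have p3 := ncl12_eq q
  rcases eq_or_lt_of_le hq with rfl | hq3
  · decide +kernel
  obtain ⟨k, rfl⟩ := Nat.exists_eq_add_of_le' (show 3 ≤ q from hq3)
  have a0 : (k + 3) ^ 2 ≤ (k + 3) ^ 4 := Nat.pow_le_pow_right (by omega) (by norm_num)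
  have a1 : 4 ≤ (k + 3) ^ 2 := by ring_nf; omega
  have a2 : (k + 3) ^ 4 + 1 + 8 + 2 * (k + 3) ^ 2 ≤ 2 * (k + 3) ^ 4 + 2 := by ring_nf; omega
  rcases ncl_or (e := 8) (q := k + 3) (by norm_num [cc]) with h1 | h1 <;>
    rw [p1] at h1 <;> rw [p3, p2] <;> (try rw [e1] at h1) <;> omega

theorem dist_20_24 (hq : 2 ≤ q) : ncl 20 q + 4 ≤ ncl 24 q := by
  have h1 := ncl_le 20 (show 1 ≤ q by omega)
  have p1 : Ph 20 q = (q ^ 8 + q ^ 4 + 1) - (q ^ 6 + q ^ 2) := rfl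
  have p2 : Ph 24 q = (q ^ 8 + 1) - q ^ 4 := rfl
  rw [ncl24_eq, p2]
  rw [p1] at h1
  obtain ⟨k, rfl⟩ := Nat.exists_eq_add_of_le' hq
  have a0 : (k + 2) ^ 4 ≤ (k + 2) ^ 8 := Nat.pow_le_pow_right (by omega) (by norm_num)
  have a1 : (k + 2) ^ 8 + (k + 2) ^ 4 + 1 + 4 + (k + 2) ^ 4 ≤ (k + 2) ^ 8 + 1 + ((k + 2) ^ 6 + (k + 2) ^ 2) := by
    ring_nf; omega
  have a2 : (k + 2) ^ 6 ≤ (k + 2) ^ 8 := Nat.pow_le_pow_right (by omega) (by norm_num)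
  have a3 : (k + 2) ^ 2 ≤ (k + 2) ^ 4 := Nat.pow_le_pow_right (by omega) (by norm_num)
  omega

end Cfsg.Agent.H563.KG
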