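import Cfsg.Agent.H563.KG.Core
import Cfsg.Agent.H563.KG.Dist

/-!
# The classes of tori are good for all primes: `E₆(q)`, `²E₆(q)`, `E₇(q)` (helper563)
-/

set_option autoImplicit false

namespace Cfsg.Agent.H563.KG

open Cfsg Cfsg.Agent.OrdDiv Cfsg.Agent.H436 Cfsg.Agent.H902 Cfsg.Agent.H290.ElReg Cfsg.Agent.H290.ElTab
  Cfsg.Agent.H56.Exc Cfsg.Agent.H325.Loc

/-- the orders of the centralisers of the elements of class `e` divide `N` -/
def Ord (G : Type*) [Group G] (q e N : ℕ) : Prop :=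
  ∀ r, Prim q e r → ∀ x : G, orderOf x = r → Nat.card ↥(Subgroup.centralizer ({x} : Set G)) ∣ N

theorem Free.mul {G : Type*} [Group G] {t m₁ m₂ : ℕ} (h1 : Free G t m₁) (h2 : Free G t m₂) : Free G t (m₁ * m₂) := by
  intro x hx hxm a ha hc
  rcases hx.dvd_mul.1 hxm with h | h
  · exact h1 x hx h a ha hc
  · exact h2 x hx h a ha hc

theorem Ord.free {G : Type*} [Group G] [Finite G] {q e N t : ℕ} (h : Ord G q e N) (he : Cls e) (hq : 1 ≤ q)
    (ht : t.Prime) (hN : ¬ t ∣ N) : Free G t (ncl e q) := by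
  intro x hx hxm a ha hc
  have h1 := h _ (prim_of_dvd he hq hx hxm) x rfl
  have h2 : a ∈ Subgroup.centralizer ({x} : Set G) := Subgroup.mem_centralizer_singleton_iff.2 hc.symm
  have h3 : orderOf a ∣ N := by
    have h4 : orderOf (⟨a, h2⟩ : ↥(Subgroup.centralizer ({x} : Set G))) = orderOf a := by
      rw [← Subgroup.orderOf_coe]
    rw [← h4]
    exact (orderOf_dvd_natCard _).trans h1
  have h4 : orderOf a ∣ t := orderOf_dvd_of_pow_eq_one ha
  rcases (Nat.dvd_prime ht).1 h4 with h5 | h5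
  · rwa [orderOf_eq_one_iff] at h5
  · rw [h5] at h3
    exact absurd h3 hN

theorem gcd_congr {s a b : ℕ} (hs : s.Prime) (h : s ∣ a ↔ s ∣ b) : Nat.gcd s a = Nat.gcd s b := by
  by_cases h1 : s ∣ a
  · rw [Nat.gcd_eq_left h1, Nat.gcd_eq_left (h.1 h1)]
  · have h2 : ¬ s ∣ b := fun h3 => h1 (h.2 h3)
    rw [(Nat.Prime.coprime_iff_not_dvd hs).2 h1, (Nat.Prime.coprime_iff_not_dvd hs).2 h2]

theorem ncl9_eq {q : ℕ} (hq : 1 ≤ q) : (q ^ 6 + q ^ 3 + 1) / Nat.gcd 3 (q - 1) = ncl 9 q := by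
  unfold ncl
  show _ = (q ^ 6 + q ^ 3 + 1) / Nat.gcd 3 (q ^ 6 + q ^ 3 + 1)
  rw [gcd_congr (a := q - 1) (b := q ^ 6 + q ^ 3 + 1) Nat.prime_three]
  rw [← ZMod.natCast_eq_zero_iff, ← ZMod.natCast_eq_zero_iff, Nat.cast_sub hq]
  push_cast
  generalize (q : ZMod 3) = x
  revert x
  decide

theorem ncl18_eq {q : ℕ} (hq : 1 ≤ q) : (q ^ 6 - q ^ 3 + 1) / Nat.gcd 3 (q + 1) = ncl 18 q := by
  unfold ncl
  have h0 : q ^ 3 ≤ q ^ 6 := Nat.pow_le_pow_right hq (by norm_num)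
  have h1 : q ^ 6 - q ^ 3 + 1 = Ph 18 q := by
    show _ = (q ^ 6 + 1) - q ^ 3
    omega
  rw [h1]
  show _ = Ph 18 q / Nat.gcd 3 (Ph 18 q)
  rw [gcd_congr (a := q + 1) (b := Ph 18 q) Nat.prime_three]
  rw [← ZMod.natCast_eq_zero_iff, ← ZMod.natCast_eq_zero_iff, cast_Ph18 (ZMod 3) hq]
  push_cast
  generalize (q : ZMod 3) = x
  revert x
  decide

/-- a prime dividing `ncl e q` is of class `e` -/
theorem not_dvd_of_not_prim {q e t : ℕ} (he : Cls e) (hq : 1 ≤ q) (ht : t.Prime) (h : ¬ Prim q e t) : ¬ t ∣ ncl e q :=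
  fun h1 => h (prim_of_dvd he hq ht h1)

/-- the case of a large class -/
theorem good_one {G : Type*} [Group G] [Finite G] {q e N t n : ℕ} (h : Ord G q e N) (he : Cls e) (hq : 1 ≤ q)
    (ht : t.Prime) (hN : ¬ t ∣ N) (hn : n < ncl e q) (hG : ncl e q ∣ Nat.card G) : Good G n t :=
  ⟨ncl e q, hG, h.free he hq ht hN, Or.inl hn⟩

/-- the case of two classes -/
theorem good_two {G : Type*} [Group G] [Finite G] {q e e' N N' t n : ℕ} (h : Ord G q e N) (h' : Ord G q e' N')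
    (he : Cls e) (he' : Cls e') (hne : e ≠ e') (hq : 1 ≤ q)
    (ht : t.Prime) (hN : ¬ t ∣ N) (hN' : ¬ t ∣ N') (hn : n < ncl e q * ncl e' q) (hG : ncl e q ∣ Nat.card G)
    (hG' : ncl e' q ∣ Nat.card G) : Good G n t :=
  ⟨ncl e q * ncl e' q, (ncl_coprime he he' hq hne).mul_dvd_of_dvd_of_dvd hG hG',
    (h.free he hq ht hN).mul (h'.free he' hq ht hN'), Or.inl hn⟩

/-- the case of one prime class -/
theorem good_pr {G : Type*} [Group G] [Finite G] {q e N t n : ℕ} (h : Ord G q e N) (he : Cls e) (hq : 1 ≤ q)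
    (ht : t.Prime) (hN : ¬ t ∣ N) (hn : (ncl e q).Prime) (hG : ncl e q ∣ Nat.card G)
    (hk : ∀ k, 0 < k → t ^ k ∣ Nat.card G → ¬ ncl e q ∣ t ^ k - 1) : Good G n t :=
  ⟨ncl e q, hG, h.free he hq ht hN, Or.inr ⟨hn, hk⟩⟩

/-- the powers of `t` dividing the order -/
theorem pow_bound {t M K : ℕ} (hM : ¬ t ^ (K + 1) ∣ M) {k : ℕ} (h : t ^ k ∣ M) : k ≤ K := by
  by_contra hk
  exact hM ((pow_dvd_pow t (by omega : K + 1 ≤ k)).trans h)

/-- **`E₆(q)`, the classes 9, 12.** -/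
theorem good_E6 {G : Type*} [Group G] [Finite G] {q n : ℕ} (hn : n ≤ 78) (hq : 2 ≤ q) (h9 : Ord G q 9 (ncl 9 q))
    (h12 : Ord G q 12 (Ph 12 q * (q ^ 2 + q + 1))) (hd : Nat.card G ∣ OL .E6 q)
    (g9 : ncl 9 q ∣ Nat.card G) (g12 : ncl 12 q ∣ Nat.card G)
    {t : ℕ} (ht : t.Prime) (ht9 : ¬ Prim q 9 t) (ht12 : ¬ Prim q 12 t) : Good G n t := by
  have hq1 : 1 ≤ q := by omega
  have c9 : Cls 9 := by unfold Cls; omega
  have c12 : Cls 12 := by unfold Cls; omega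
  have h1 := not_dvd_of_not_prim c9 hq1 ht ht9
  rcases eq_or_lt_of_le hq with rfl | hq3
  · by_cases h7 : t = 7
    · subst h7
      refine good_pr h9 c9 hq1 ht h1 (by decide +kernel) g9 ?_
      intro k hk hkG
      have h2 : k ≤ 3 := pow_bound (M := OL .E6 2) (by decide +kernel) (hkG.trans hd)
      have h3 : ncl 9 2 = 73 := by decide +kernel
      rw [h3]
      interval_cases k <;> norm_num
    · refine good_two h9 h12 c9 c12 (by norm_num) hq1 ht h1 ?_ (lt_of_le_of_lt hn (by decide +kernel)) g9 g12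
      intro h2
      rcases ht.dvd_mul.1 h2 with h3 | h3
      · have h4 : ncl 12 2 = Ph 12 2 := by decide +kernel
        exact not_dvd_of_not_prim c12 hq1 ht ht12 (h4 ▸ h3)
      · have h4 : (2 ^ 2 + 2 + 1 : ℕ) = 7 := by norm_num
        rw [h4] at h3
        exact h7 ((Nat.prime_dvd_prime_iff_eq ht (by norm_num)).1 h3)
  · exact good_one h9 c9 hq1 ht h1 (by have := ncl9_gt hq3; omega) g9

/-- **`²E₆(q)`, the classes 18, 12.** -/
theorem good_TE6 {G : Type*} [Group G] [Finite G] {q n : ℕ} (hn : n ≤ 78) (hq : 2 ≤ q) (h18 : Ord G q 18 (ncl 18 q))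
    (h12 : Ord G q 12 (Ph 12 q * (q ^ 2 - q + 1))) (hd : Nat.card G ∣ OL .TE6 q)
    (g18 : ncl 18 q ∣ Nat.card G) (g12 : ncl 12 q ∣ Nat.card G)
    {t : ℕ} (ht : t.Prime) (ht18 : ¬ Prim q 18 t) (ht12 : ¬ Prim q 12 t) : Good G n t := by
  have hq1 : 1 ≤ q := by omega
  have c18 : Cls 18 := by unfold Cls; omega
  have c12 : Cls 12 := by unfold Cls; omega
  have h1 := not_dvd_of_not_prim c18 hq1 ht ht18
  rcases eq_or_lt_of_le hq with rfl | hq3
  · by_cases h7 : t = 3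
    · subst h7
      refine good_pr h18 c18 hq1 ht h1 (by decide +kernel) g18 ?_
      intro k hk hkG
      have h2 : k ≤ 10 := pow_bound (M := OL .TE6 2) (by decide +kernel) (hkG.trans hd)
      have h3 : ncl 18 2 = 19 := by decide +kernel
      rw [h3]
      interval_cases k <;> norm_num
    · refine good_two h18 h12 c18 c12 (by norm_num) hq1 ht h1 ?_ (lt_of_le_of_lt hn (by decide +kernel)) g18 g12
      intro h2
      rcases ht.dvd_mul.1 h2 with h3 | h3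
      · have h4 : ncl 12 2 = Ph 12 2 := by decide +kernel
        exact not_dvd_of_not_prim c12 hq1 ht ht12 (h4 ▸ h3)
      · have h4 : (2 ^ 2 - 2 + 1 : ℕ) = 3 := by norm_num
        rw [h4] at h3
        exact h7 ((Nat.prime_dvd_prime_iff_eq ht (by norm_num)).1 h3)
  · exact good_one h18 c18 hq1 ht h1 (by have := ncl18_gt hq3; omega) g18

/-! ### `E₇(q)` -/

/-- a prime dividing the cyclotomic number which is not primitive is `cc e` -/
theorem eq_cc {q e t : ℕ} (he : Cls e) (hq : 1 ≤ q) (ht : t.Prime) (h : ¬ Prim q e t) (hd : t ∣ Ph e q) : t ∣ cc e := by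
  rw [← ncl_mul e q] at hd
  rcases ht.dvd_mul.1 hd with h1 | h1
  · exact absurd h1 (not_dvd_of_not_prim he hq ht h)
  · exact h1.trans (Nat.gcd_dvd_left _ _)

theorem sub_of_nine {q t : ℕ} (hq : 1 ≤ q) (ht : t.Prime) (h : ¬ Prim q 9 t) (hd : t ∣ (q - 1) * Ph 9 q) : t ∣ q - 1 := by
  rcases ht.dvd_mul.1 hd with h1 | h1
  · exact h1
  · obtain rfl := (Nat.prime_dvd_prime_iff_eq ht Nat.prime_three).1 (eq_cc (by unfold Cls; omega) hq ht h h1)
    rw [← ZMod.natCast_eq_zero_iff] at h1 ⊢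
    rw [cast_Ph9 (ZMod 3)] at h1
    rw [Nat.cast_sub hq]
    push_cast
    generalize (q : ZMod 3) = x at h1 ⊢
    revert x
    decide

theorem sub_of_seven {q t : ℕ} (hq : 1 ≤ q) (ht : t.Prime) (h : ¬ Prim q 7 t) (hd : t ∣ (q - 1) * Ph 7 q) : t ∣ q - 1 := by
  rcases ht.dvd_mul.1 hd with h1 | h1
  · exact h1
  · obtain rfl := (Nat.prime_dvd_prime_iff_eq ht (by norm_num)).1
      (show t ∣ 7 from eq_cc (by unfold Cls; omega) hq ht h h1)
    rw [← ZMod.natCast_eq_zero_iff] at h1 ⊢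
    rw [cast_Ph7 (ZMod 7)] at h1
    rw [Nat.cast_sub hq]
    push_cast
    generalize (q : ZMod 7) = x at h1 ⊢
    revert x
    decide

theorem add_of_fourteen {q t : ℕ} (hq : 1 ≤ q) (ht : t.Prime) (h : ¬ Prim q 14 t) (hd : t ∣ (q + 1) * Ph 14 q) :
    t ∣ q + 1 := by
  rcases ht.dvd_mul.1 hd with h1 | h1
  · exact h1
  · obtain rfl := (Nat.prime_dvd_prime_iff_eq ht (by norm_num)).1
      (show t ∣ 7 from eq_cc (by unfold Cls; omega) hq ht h h1)
    rw [← ZMod.natCast_eq_zero_iff] at h1 ⊢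
    rw [cast_Ph14 (ZMod 7) hq] at h1
    push_cast
    generalize (q : ZMod 7) = x at h1 ⊢
    revert x
    decide

theorem add_of_eighteen {q t : ℕ} (hq : 1 ≤ q) (ht : t.Prime) (h : ¬ Prim q 18 t) (hd : t ∣ (q + 1) * Ph 18 q) :
    t ∣ q + 1 := by
  rcases ht.dvd_mul.1 hd with h1 | h1
  · exact h1
  · obtain rfl := (Nat.prime_dvd_prime_iff_eq ht Nat.prime_three).1
      (show t ∣ 3 from eq_cc (by unfold Cls; omega) hq ht h h1)
    rw [← ZMod.natCast_eq_zero_iff] at h1 ⊢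
    rw [cast_Ph18 (ZMod 3) hq] at h1
    push_cast
    generalize (q : ZMod 3) = x at h1 ⊢
    revert x
    decide

theorem ph_odd {q e : ℕ} (hq : 1 ≤ q) (ho : Odd q) (he : e = 7 ∨ e = 9 ∨ e = 14 ∨ e = 18) : ¬ 2 ∣ Ph e q := by
  intro h
  have h2 : (q : ZMod 2) = 1 := by
    obtain ⟨k, rfl⟩ := ho
    push_cast
    have : (2 : ZMod 2) = 0 := rfl
    rw [this]; ring
  rw [← ZMod.natCast_eq_zero_iff] at h
  rcases he with rfl | rfl | rfl | rfl
  · rw [cast_Ph7 (ZMod 2), h2] at h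
    revert h; decide
  · rw [cast_Ph9 (ZMod 2), h2] at h
    revert h; decide
  · rw [cast_Ph14 (ZMod 2) hq, h2] at h
    revert h; decide
  · rw [cast_Ph18 (ZMod 2) hq, h2] at h
    revert h; decide

theorem half_dvd {a P t d : ℕ} (ht : t.Prime) (h : t ∣ a * P / d) (hd : d ∣ a) : t ∣ a * P := by
  obtain ⟨b, rfl⟩ := hd
  rcases Nat.eq_zero_or_pos d with rfl | hd0
  · simp
  · rw [mul_assoc, Nat.mul_div_cancel_left _ hd0] at h
    rw [mul_assoc]
    exact h.mul_left _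

/-- an even half torus -/
theorem four_dvd {a P : ℕ} (ha : 2 ∣ a) (hP : ¬ 2 ∣ P) (h : 2 ∣ a * P / 2) : 4 ∣ a := by
  obtain ⟨b, rfl⟩ := ha
  rw [mul_assoc, Nat.mul_div_cancel_left _ (by norm_num)] at h
  rcases Nat.prime_two.dvd_mul.1 h with h1 | h1
  · obtain ⟨c, rfl⟩ := h1
    exact ⟨c, by ring⟩
  · exact absurd h1 hP

theorem gcd_two_odd {q : ℕ} (hq : 1 ≤ q) (ho : Odd q) : Nat.gcd 2 (q - 1) = 2 := by
  obtain ⟨k, rfl⟩ := ho
  exact Nat.gcd_eq_left ⟨k, by omega⟩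

/-- no prime `t` divides both half tori -/
theorem no_both {q t P P' : ℕ} (hq : 1 ≤ q) (ht : t.Prime) (ht2 : t = 2 → Odd q)
    (hP : Odd q → ¬ 2 ∣ P) (hP' : Odd q → ¬ 2 ∣ P') (h1 : t ∣ (q - 1) * P → t ∣ q - 1) (h2 : t ∣ (q + 1) * P' → t ∣ q + 1)
    (h : t ∣ (q - 1) * P / Nat.gcd 2 (q - 1)) (h' : t ∣ (q + 1) * P' / Nat.gcd 2 (q - 1)) : False := by
  have hd : Nat.gcd 2 (q - 1) ∣ q - 1 := Nat.gcd_dvd_right _ _
  have hd' : Nat.gcd 2 (q - 1) ∣ q + 1 := by
    have h3 : q + 1 = (q - 1) + 2 := by omega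
    rw [h3]
    exact dvd_add hd (Nat.gcd_dvd_left _ _)
  by_cases h3 : t = 2
  · subst h3
    have ho := ht2 rfl
    rw [gcd_two_odd hq ho] at h h' hd hd'
    have h4 := four_dvd hd (hP ho) h
    have h5 := four_dvd hd' (hP' ho) h'
    have := hq
    omega
  · have h4 := h1 (half_dvd ht h hd)
    have h5 := h2 (half_dvd ht h' hd')
    have h6 : t ∣ (q + 1) - (q - 1) := Nat.dvd_sub h5 h4
    have h7 : (q + 1) - (q - 1) = 2 := by omega
    rw [h7] at h6
    exact h3 ((Nat.prime_dvd_prime_iff_eq ht Nat.prime_two).1 h6)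

/-- **`E₇(q)`, the classes 9, 14.** -/
theorem good_E7a {G : Type*} [Group G] [Finite G] {q n : ℕ} (hn : n ≤ 133) (hq : 2 ≤ q)
    (h9 : Ord G q 9 ((q - 1) * Ph 9 q / Nat.gcd 2 (q - 1)))
    (h14 : Ord G q 14 ((q + 1) * Ph 14 q / Nat.gcd 2 (q - 1))) (hd : Nat.card G ∣ OL .E7 q)
    (g9 : ncl 9 q ∣ Nat.card G) (g14 : ncl 14 q ∣ Nat.card G)
    {t : ℕ} (ht : t.Prime) (ht2 : t = 2 → Odd q) (ht9 : ¬ Prim q 9 t) (ht14 : ¬ Prim q 14 t) : Good G n t := by
  have hq1 : 1 ≤ q := by omega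
  have c9 : Cls 9 := by unfold Cls; omega
  have c14 : Cls 14 := by unfold Cls; omega
  rcases eq_or_lt_of_le hq with rfl | hq3
  · have h1 := not_dvd_of_not_prim c9 hq1 ht ht9
    have h1' := not_dvd_of_not_prim c14 hq1 ht ht14
    have h2 : (2 - 1) * Ph 9 2 / Nat.gcd 2 (2 - 1) = ncl 9 2 := by decide +kernel
    have h3 : (2 + 1) * Ph 14 2 / Nat.gcd 2 (2 - 1) = 3 * ncl 14 2 := by decide +kernel
    rw [h2] at h9
    rw [h3] at h14
    by_cases h7 : t = 3
    · subst h7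
      refine good_pr h9 c9 hq1 ht h1 (by decide +kernel) g9 ?_
      intro k hk hkG
      have h2 : k ≤ 11 := pow_bound (M := OL .E7 2) (by decide +kernel) (hkG.trans hd)
      have h3 : ncl 9 2 = 73 := by decide +kernel
      rw [h3]
      interval_cases k <;> norm_num
    · refine good_two h9 h14 c9 c14 (by norm_num) hq1 ht h1 ?_ (lt_of_le_of_lt hn (by decide +kernel)) g9 g14
      intro h2
      rcases ht.dvd_mul.1 h2 with h3 | h3
      · exact h7 ((Nat.prime_dvd_prime_iff_eq ht (by norm_num)).1 h3)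
      · exact h1' h3
  · by_cases h1 : t ∣ (q - 1) * Ph 9 q / Nat.gcd 2 (q - 1)
    · refine good_one h14 c14 hq1 ht (fun h2 => ?_) (by have := ncl14_gt hq3; omega) g14
      exact no_both hq1 ht ht2 (fun ho => ph_odd hq1 ho (by omega)) (fun ho => ph_odd hq1 ho (by omega))
        (sub_of_nine hq1 ht ht9) (add_of_fourteen hq1 ht ht14) h1 h2
    · exact good_one h9 c9 hq1 ht h1 (by have := ncl9_gt hq3; omega) g9

/-- **`E₇(q)`, the classes 18, 7.** -/
theorem good_E7b {G : Type*} [Group G] [Finite G] {q n : ℕ} (hn : n ≤ 133) (hq : 2 ≤ q)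
    (h7 : Ord G q 7 ((q - 1) * Ph 7 q / Nat.gcd 2 (q - 1)))
    (h18 : Ord G q 18 ((q + 1) * Ph 18 q / Nat.gcd 2 (q - 1))) (hd : Nat.card G ∣ OL .E7 q)
    (g7 : ncl 7 q ∣ Nat.card G) (g18 : ncl 18 q ∣ Nat.card G)
    {t : ℕ} (ht : t.Prime) (ht2 : t = 2 → Odd q) (ht7 : ¬ Prim q 7 t) (ht18 : ¬ Prim q 18 t) : Good G n t := by
  have hq1 : 1 ≤ q := by omega
  have c7 : Cls 7 := by unfold Cls; omega
  have c18 : Cls 18 := by unfold Cls; omega
  rcases eq_or_lt_of_le hq with rfl | hq3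
  · have h1 := not_dvd_of_not_prim c7 hq1 ht ht7
    have h1' := not_dvd_of_not_prim c18 hq1 ht ht18
    have h2 : (2 - 1) * Ph 7 2 / Nat.gcd 2 (2 - 1) = ncl 7 2 := by decide +kernel
    have h3 : (2 + 1) * Ph 18 2 / Nat.gcd 2 (2 - 1) = 9 * ncl 18 2 := by decide +kernel
    rw [h2] at h7
    rw [h3] at h18
    by_cases h9 : t = 3
    · subst h9
      refine good_pr h7 c7 hq1 ht h1 (by decide +kernel) g7 ?_
      intro k hk hkG
      have h2 : k ≤ 11 := pow_bound (M := OL .E7 2) (by decide +kernel) (hkG.trans hd)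
      have h3 : ncl 7 2 = 127 := by decide +kernel
      rw [h3]
      interval_cases k <;> norm_num
    · refine good_two h7 h18 c7 c18 (by norm_num) hq1 ht h1 ?_ (lt_of_le_of_lt hn (by decide +kernel)) g7 g18
      intro h2
      rcases ht.dvd_mul.1 h2 with h3 | h3
      · have h4 : t ∣ 3 ^ 2 := h3
        exact h9 ((Nat.prime_dvd_prime_iff_eq ht (by norm_num)).1 (ht.dvd_of_dvd_pow h4))
      · exact h1' h3
  · by_cases h1 : t ∣ (q - 1) * Ph 7 q / Nat.gcd 2 (q - 1)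
    · refine good_one h18 c18 hq1 ht (fun h2 => ?_) (by have := ncl18_gt hq3; omega) g18
      exact no_both hq1 ht ht2 (fun ho => ph_odd hq1 ho (by omega)) (fun ho => ph_odd hq1 ho (by omega))
        (sub_of_seven hq1 ht ht7) (add_of_eighteen hq1 ht ht18) h1 h2
    · exact good_one h7 c7 hq1 ht h1 (by have := ncl7_gt hq3; omega) g7

/-! ### `F₄(q)`, `E₈(q)` -/

/-- **`F₄(q)`, the classes 12, 8.** -/
theorem good_F4 {G : Type*} [Group G] [Finite G] {q n : ℕ} (hn : n ≤ 52) (hq : 2 ≤ q) (h12 : Ord G q 12 (Ph 12 q))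
    (h8 : Ord G q 8 (Ph 8 q))
    (g12 : ncl 12 q ∣ Nat.card G) (g8 : ncl 8 q ∣ Nat.card G)
    {t : ℕ} (ht : t.Prime) (ht12 : ¬ Prim q 12 t) (ht8 : ¬ Prim q 8 t) : Good G n t := by
  have hq1 : 1 ≤ q := by omega
  have c12 : Cls 12 := by unfold Cls; omega
  have c8 : Cls 8 := by unfold Cls; omega
  have h1 := not_dvd_of_not_prim c12 hq1 ht ht12
  rw [← ncl12_eq] at h12
  rcases eq_or_lt_of_le hq with rfl | hq3
  · have h2 := not_dvd_of_not_prim c8 hq1 ht ht8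
    have h3 : ncl 8 2 = Ph 8 2 := by decide +kernel
    rw [← h3] at h8
    exact good_two h12 h8 c12 c8 (by norm_num) hq1 ht h1 h2 (lt_of_le_of_lt hn (by decide +kernel)) g12 g8
  · exact good_one h12 c12 hq1 ht h1 (lt_of_le_of_lt hn (ncl12_gt hq3)) g12

/-- **`E₈(q)`, the classes 20, 24.** -/
theorem good_E8 {G : Type*} [Group G] [Finite G] {q n : ℕ} (hn : n ≤ 248) (hq : 2 ≤ q) (h24 : Ord G q 24 (Ph 24 q))
    (h20 : Ord G q 20 (Ph 20 q)) (hd : Nat.card G ∣ OL .E8 q)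
    (g24 : ncl 24 q ∣ Nat.card G) (g20 : ncl 20 q ∣ Nat.card G)
    {t : ℕ} (ht : t.Prime) (ht24 : ¬ Prim q 24 t) (ht20 : ¬ Prim q 20 t) : Good G n t := by
  have hq1 : 1 ≤ q := by omega
  have c24 : Cls 24 := by unfold Cls; omega
  have c20 : Cls 20 := by unfold Cls; omega
  have h1 := not_dvd_of_not_prim c24 hq1 ht ht24
  rw [← ncl24_eq] at h24
  rcases eq_or_lt_of_le hq with rfl | hq3
  · have h2 := not_dvd_of_not_prim c20 hq1 ht ht20
    have h3 : Ph 20 2 = 5 * ncl 20 2 := by decide +kernel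
    rw [h3] at h20
    by_cases h5 : t = 5
    · subst h5
      refine good_pr h24 c24 hq1 ht h1 (by decide +kernel) g24 ?_
      intro k hk hkG
      have h2 : k ≤ 5 := pow_bound (M := OL .E8 2) (by decide +kernel) (hkG.trans hd)
      have h3 : ncl 24 2 = 241 := by decide +kernel
      rw [h3]
      interval_cases k <;> norm_num
    · refine good_two h24 h20 c24 c20 (by norm_num) hq1 ht h1 ?_ (lt_of_le_of_lt hn (by decide +kernel)) g24 g20
      intro h3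
      rcases ht.dvd_mul.1 h3 with h4 | h4
      · exact h5 ((Nat.prime_dvd_prime_iff_eq ht (by norm_num)).1 h4)
      · exact h2 h4
  · exact good_one h24 c24 hq1 ht h1 (lt_of_le_of_lt hn (ncl24_gt hq3)) g24

/-- centraliser orders in subgroups -/
theorem Ord.sub {T : Type*} [Group T] [Finite T] {q e N : ℕ} (h : Ord T q e N) (B : Subgroup T) : Ord ↥B q e N := by
  intro r hr x hx
  have h1 := h r hr (x : T) (by rw [Subgroup.orderOf_coe]; exact hx)
  have h2 : (Subgroup.centralizer ({x} : Set ↥B)).map B.subtype ≤ Subgroup.centralizer ({(x : T)}) := by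
    rintro _ ⟨y, hy, rfl⟩
    rw [Subgroup.mem_centralizer_singleton_iff]
    exact congrArg Subtype.val (Subgroup.mem_centralizer_singleton_iff.1 hy)
  have h3 : Nat.card ↥((Subgroup.centralizer ({x} : Set ↥B)).map B.subtype) = Nat.card ↥(Subgroup.centralizer ({x} : Set ↥B)) :=
    Nat.card_congr ((Subgroup.centralizer ({x} : Set ↥B)).equivMapOfInjective _ B.subtype_injective).symm.toEquiv
  exact (h3 ▸ Subgroup.card_dvd_of_le h2).trans h1

end Cfsg.Agent.H563.KG
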