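import Cfsg.Agent.H563.KG.KTE6
import Cfsg.Agent.H563.KG.KE7
import Cfsg.Agent.H563.KG.KE8

/-!
# The K theorems for named groups in every universe (helper563)

For `hT : IsNamed (.e6 q) T` etc. and a subgroup `B` of `T`: if no primitive prime divisor of the listed classes divides
`B.index` then `B = ⊤`. Classes: `E₆` 9, 12; `²E₆` 18, 12; `E₇` 9, 14 or 18, 7; `F₄` 12, 8; `E₈` 20, 24.
-/

set_option autoImplicit false

namespace Cfsg.Agent.H563.KG

open Cfsg Cfsg.Agent.OrdDiv Cfsg.Agent.H436 Cfsg.Agent.H56.Exc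

theorem index_map' {T T' : Type*} [Group T] [Group T'] (e : T ≃* T') (B : Subgroup T) :
    (B.map e.toMonoidHom).index = B.index := Subgroup.index_map_equiv B e

theorem Off.map {T T' : Type*} [Group T] [Group T'] (e : T ≃* T') {q : ℕ} {cls : List ℕ} {B : Subgroup T}
    (h : Off q cls B) : Off q cls (B.map e.toMonoidHom) := by
  intro c hc r hr
  rw [index_map']
  exact h c hc r hr

theorem eq_top_of_map {T T' : Type*} [Group T] [Group T'] (e : T ≃* T') {B : Subgroup T}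
    (h : B.map e.toMonoidHom = ⊤) : B = ⊤ := by
  rw [← Subgroup.index_eq_one] at h ⊢
  rwa [index_map'] at h

section

variable (tb : OrderTable.{0}) (hcyc : CycFixSolv.{0}) (hcf : CF) {T : Type*} [Group T] {q : ℕ} (B : Subgroup T)

include tb hcyc hcf

theorem K_e6 (hT : IsNamed (.e6 q) T) (hoff : Off q [9, 12] B) : B = ⊤ := by
  obtain ⟨F, _, _, rfl, ⟨e⟩⟩ := hT.real
  exact eq_top_of_map e (K_E6 tb hcyc hcf _ (hoff.map e))

theorem K_te6 (hT : IsNamed (.te6 q) T) (hoff : Off q [18, 12] B) : B = ⊤ := by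
  obtain ⟨F, _, _, hF, ⟨e⟩⟩ := hT.real
  exact eq_top_of_map e (K_TE6 tb hcyc hcf hT.cond hF _ (hoff.map e))

theorem K_e7a (hT : IsNamed (.e7 q) T) (hoff : Off q [9, 14] B) : B = ⊤ := by
  obtain ⟨F, _, _, rfl, ⟨e⟩⟩ := hT.real
  exact eq_top_of_map e (K_E7a tb hcyc hcf _ (hoff.map e))

theorem K_e7b (hT : IsNamed (.e7 q) T) (hoff : Off q [18, 7] B) : B = ⊤ := by
  obtain ⟨F, _, _, rfl, ⟨e⟩⟩ := hT.real
  exact eq_top_of_map e (K_E7b tb hcyc hcf _ (hoff.map e))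

theorem K_f4 (hT : IsNamed (.f4 q) T) (hoff : Off q [12, 8] B) : B = ⊤ := by
  obtain ⟨F, _, _, rfl, ⟨e⟩⟩ := hT.real
  exact eq_top_of_map e (K_F4 tb hcyc hcf _ (hoff.map e))

theorem K_e8 (hT : IsNamed (.e8 q) T) (hoff : Off q [20, 24] B) : B = ⊤ := by
  obtain ⟨F, _, _, rfl, ⟨e⟩⟩ := hT.real
  exact eq_top_of_map e (K_E8 tb hcyc hcf _ (hoff.map e))

end

end Cfsg.Agent.H563.KG
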