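import Mathlib
import Cfsg.Agent.H436.Ppd

/-!
# The cyclotomic parts `ncl e q`, `e = 7, 9, 12, 14, 18` (helper563)

`Ph e q` is the value of the cyclotomic polynomial, `ncl e q` its part prime to `e`.
-/

set_option autoImplicit false

namespace Cfsg.Agent.H563.KG

open Cfsg.Agent.H436 (Prim)

/-- a criterion for primitive primes -/
theorem prim_mk {q e r : ℕ} (hr : r.Prime) (hq : 1 ≤ q) (he : 1 ≤ e) (hd : (q : ZMod r) ^ e = 1)
    (h : ∀ s : ℕ, s.Prime → s ∣ e → (q : ZMod r) ^ (e / s) ≠ 1) : Prim q e r := by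
  have := Fact.mk hr
  have ho : orderOf (q : ZMod r) = e := orderOf_eq_of_pow_and_pow_div_prime he hd h
  refine ⟨hr, fun m => ?_, fun hrq => ?_⟩
  · have h1 : 1 ≤ q ^ m := Nat.one_le_pow _ _ hq
    rw [← ZMod.natCast_eq_zero_iff, Nat.cast_sub h1, Nat.cast_pow, Nat.cast_one, sub_eq_zero, ← ho,
      orderOf_dvd_iff_pow_eq_one]
  · have h1 : (q : ZMod r) = 0 := (ZMod.natCast_eq_zero_iff q r).2 hrq
    rw [h1, zero_pow (by omega)] at hd
    exact zero_ne_one hd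

/-- the cyclotomic numbers -/
def Ph : ℕ → ℕ → ℕ
  | 7, q => q ^ 6 + q ^ 5 + q ^ 4 + q ^ 3 + q ^ 2 + q + 1
  | 9, q => q ^ 6 + q ^ 3 + 1
  | 12, q => q ^ 4 - q ^ 2 + 1
  | 14, q => (q ^ 6 + q ^ 4 + q ^ 2 + 1) - (q ^ 5 + q ^ 3 + q)
  | 18, q => (q ^ 6 + 1) - q ^ 3
  | 8, q => q ^ 4 + 1
  | 20, q => (q ^ 8 + q ^ 4 + 1) - (q ^ 6 + q ^ 2)
  | 24, q => (q ^ 8 + 1) - q ^ 4
  | _, _ => 1

/-- the possible common prime divisor with `e` -/
def cc : ℕ → ℕ
  | 7 => 7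
  | 9 => 3
  | 14 => 7
  | 18 => 3
  | 8 => 2
  | 20 => 5
  | _ => 1

/-- the part of the cyclotomic number prime to `e` -/
def ncl (e q : ℕ) : ℕ := Ph e q / Nat.gcd (cc e) (Ph e q)

variable {q r : ℕ}

theorem pow_le_pow' (hq : 1 ≤ q) {a b : ℕ} (h : a ≤ b) : q ^ a ≤ q ^ b := Nat.pow_le_pow_right hq h

theorem cast_Ph7 (R : Type*) [CommRing R] :
    ((Ph 7 q : ℕ) : R) = (q : R) ^ 6 + (q : R) ^ 5 + (q : R) ^ 4 + (q : R) ^ 3 + (q : R) ^ 2 + (q : R) + 1 := by
  simp [Ph]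

theorem cast_Ph9 (R : Type*) [CommRing R] : ((Ph 9 q : ℕ) : R) = (q : R) ^ 6 + (q : R) ^ 3 + 1 := by
  simp [Ph]

theorem cast_Ph12 (R : Type*) [CommRing R] (hq : 1 ≤ q) : ((Ph 12 q : ℕ) : R) = (q : R) ^ 4 - (q : R) ^ 2 + 1 := by
  simp only [Ph]
  rw [Nat.cast_add, Nat.cast_sub (pow_le_pow' hq (by norm_num))]
  push_cast
  ring

theorem cast_Ph14 (R : Type*) [CommRing R] (hq : 1 ≤ q) :
    ((Ph 14 q : ℕ) : R) = (q : R) ^ 6 - (q : R) ^ 5 + (q : R) ^ 4 - (q : R) ^ 3 + (q : R) ^ 2 - (q : R) + 1 := by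
  simp only [Ph]
  have h1 := pow_le_pow' hq (show 5 ≤ 6 by norm_num)
  have h2 := pow_le_pow' hq (show 3 ≤ 4 by norm_num)
  have h3 := pow_le_pow' hq (show 1 ≤ 2 by norm_num)
  rw [pow_one] at h3
  rw [Nat.cast_sub (by omega)]
  push_cast
  ring

theorem cast_Ph18 (R : Type*) [CommRing R] (hq : 1 ≤ q) : ((Ph 18 q : ℕ) : R) = (q : R) ^ 6 - (q : R) ^ 3 + 1 := by
  simp only [Ph]
  have h1 := pow_le_pow' hq (show 3 ≤ 6 by norm_num)
  rw [Nat.cast_sub (by omega)]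
  push_cast
  ring

theorem cast_Ph8 (R : Type*) [CommRing R] : ((Ph 8 q : ℕ) : R) = (q : R) ^ 4 + 1 := by
  simp [Ph]

theorem cast_Ph20 (R : Type*) [CommRing R] (hq : 1 ≤ q) :
    ((Ph 20 q : ℕ) : R) = (q : R) ^ 8 - (q : R) ^ 6 + (q : R) ^ 4 - (q : R) ^ 2 + 1 := by
  simp only [Ph]
  have h1 := pow_le_pow' hq (show 6 ≤ 8 by norm_num)
  have h2 := pow_le_pow' hq (show 2 ≤ 4 by norm_num)
  rw [Nat.cast_sub (by omega)]
  push_cast
  ring

theorem cast_Ph24 (R : Type*) [CommRing R] (hq : 1 ≤ q) : ((Ph 24 q : ℕ) : R) = (q : R) ^ 8 - (q : R) ^ 4 + 1 := by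
  simp only [Ph]
  have h1 := pow_le_pow' hq (show 4 ≤ 8 by norm_num)
  rw [Nat.cast_sub (by omega)]
  push_cast
  ring

theorem zmod_of_dvd (n : ℕ) (h : r ∣ n) : ((n : ℕ) : ZMod r) = 0 := (ZMod.natCast_eq_zero_iff n r).2 h

/-- the classes -/
def Cls (e : ℕ) : Prop := e = 7 ∨ e = 9 ∨ e = 12 ∨ e = 14 ∨ e = 18 ∨ e = 8 ∨ e = 20 ∨ e = 24

theorem Cls.ge {e : ℕ} (h : Cls e) : 7 ≤ e := by
  unfold Cls at h
  omega

theorem Ph_pos (e : ℕ) (hq : 1 ≤ q) : 0 < Ph e q := by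
  have h1 := pow_le_pow' hq (show 5 ≤ 6 by norm_num)
  have h2 := pow_le_pow' hq (show 3 ≤ 4 by norm_num)
  have h3 := pow_le_pow' hq (show 1 ≤ 2 by norm_num)
  have h4 := pow_le_pow' hq (show 3 ≤ 6 by norm_num)
  have h5 := pow_le_pow' hq (show 6 ≤ 8 by norm_num)
  have h6 := pow_le_pow' hq (show 2 ≤ 4 by norm_num)
  have h7 := pow_le_pow' hq (show 4 ≤ 8 by norm_num)
  rw [pow_one] at h3
  unfold Ph
  split <;> omega

/-- `cc e ^ 2` does not divide `Ph e q` -/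
theorem not_sq_dvd {e : ℕ} (he : Cls e) (hq : 1 ≤ q) (hc : cc e ≠ 1) : ¬ cc e ^ 2 ∣ Ph e q := by
  intro h
  rcases he with rfl | rfl | rfl | rfl | rfl | rfl | rfl | rfl
  · have h1 : ((Ph 7 q : ℕ) : ZMod 49) = 0 := zmod_of_dvd _ h
    rw [cast_Ph7] at h1
    revert h1; generalize (q : ZMod 49) = x; revert x; decide +kernel
  · have h1 : ((Ph 9 q : ℕ) : ZMod 9) = 0 := zmod_of_dvd _ h
    rw [cast_Ph9] at h1
    revert h1; generalize (q : ZMod 9) = x; revert x; decide +kernel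
  · exact hc rfl
  · have h1 : ((Ph 14 q : ℕ) : ZMod 49) = 0 := zmod_of_dvd _ h
    rw [cast_Ph14 _ hq] at h1
    revert h1; generalize (q : ZMod 49) = x; revert x; decide +kernel
  · have h1 : ((Ph 18 q : ℕ) : ZMod 9) = 0 := zmod_of_dvd _ h
    rw [cast_Ph18 _ hq] at h1
    revert h1; generalize (q : ZMod 9) = x; revert x; decide +kernel
  · have h1 : ((Ph 8 q : ℕ) : ZMod 4) = 0 := zmod_of_dvd _ h
    rw [cast_Ph8] at h1
    revert h1; generalize (q : ZMod 4) = x; revert x; decide +kernel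
  · have h1 : ((Ph 20 q : ℕ) : ZMod 25) = 0 := zmod_of_dvd _ h
    rw [cast_Ph20 _ hq] at h1
    revert h1; generalize (q : ZMod 25) = x; revert x; decide +kernel
  · exact hc rfl

theorem cc_prime {e : ℕ} (hc : cc e ≠ 1) : (cc e).Prime := by
  unfold cc at hc ⊢
  split at hc <;> first | exact absurd rfl hc | norm_num

theorem ncl_mul (e q : ℕ) : ncl e q * Nat.gcd (cc e) (Ph e q) = Ph e q :=
  Nat.div_mul_cancel (Nat.gcd_dvd_right _ _)

theorem ncl_dvd_Ph (e q : ℕ) : ncl e q ∣ Ph e q := Dvd.intro _ (ncl_mul e q)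

theorem ncl_pos (e : ℕ) (hq : 1 ≤ q) : 0 < ncl e q := Nat.pos_of_dvd_of_pos (ncl_dvd_Ph e q) (Ph_pos e hq)

/-- `ncl e q` is prime to `cc e` -/
theorem not_dvd_ncl {e : ℕ} (he : Cls e) (hq : 1 ≤ q) (hc : cc e ≠ 1) : ¬ cc e ∣ ncl e q := by
  intro h
  have h1 : cc e ∣ Nat.gcd (cc e) (Ph e q) := Nat.dvd_gcd dvd_rfl (h.trans (ncl_dvd_Ph e q))
  apply not_sq_dvd he hq hc
  rw [← ncl_mul e q, pow_two]
  exact mul_dvd_mul h h1

theorem Ph_le (e q : ℕ) (hc : cc e ≠ 0) : Ph e q ≤ ncl e q * cc e := by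
  rw [← ncl_mul e q]
  exact Nat.mul_le_mul_left _ (Nat.gcd_le_left _ (Nat.pos_of_ne_zero hc))

theorem dvd_twelve {s : ℕ} (hs : s.Prime) (h : s ∣ 12) : s = 2 ∨ s = 3 := by
  rw [show 12 = 2 ^ 2 * 3 by norm_num] at h
  rcases hs.dvd_mul.1 h with h | h
  · exact Or.inl ((Nat.prime_dvd_prime_iff_eq hs Nat.prime_two).1 (hs.dvd_of_dvd_pow h))
  · exact Or.inr ((Nat.prime_dvd_prime_iff_eq hs Nat.prime_three).1 h)

/-- **The prime divisors of `ncl e q` are primitive.** -/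
theorem prim_of_dvd {e : ℕ} (he : Cls e) (hq : 1 ≤ q) (hr : r.Prime) (h : r ∣ ncl e q) : Prim q e r := by
  have hF := Fact.mk hr
  have hP := h.trans (ncl_dvd_Ph e q)
  have h0 := zmod_of_dvd _ hP
  have hcc : cc e ≠ 1 → r ≠ cc e := by
    rintro hc rfl
    exact not_dvd_ncl he hq hc h
  have key : ∀ c : ℕ, c.Prime → ((c : ℕ) : ZMod r) = 0 → r = c := fun c hc hz =>
    (Nat.prime_dvd_prime_iff_eq hr hc).1 ((ZMod.natCast_eq_zero_iff c r).1 hz)
  rcases he with rfl | rfl | rfl | rfl | rfl | rfl | rfl | rfl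
  · rw [cast_Ph7] at h0
    refine prim_mk hr hq (by norm_num) (by linear_combination ((q : ZMod r) - 1) * h0) fun s hs hs7 => ?_
    obtain rfl := (Nat.prime_dvd_prime_iff_eq hs (by norm_num)).1 hs7
    intro h1
    rw [show 7 / 7 = 1 by norm_num, pow_one] at h1
    rw [h1] at h0
    exact hcc (by decide) (key 7 (by norm_num) (by push_cast; linear_combination h0))
  · rw [cast_Ph9] at h0
    refine prim_mk hr hq (by norm_num) (by linear_combination ((q : ZMod r) ^ 3 - 1) * h0) fun s hs hs7 => ?_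
    have hs3 : s = 3 := by
      rw [show 9 = 3 ^ 2 by norm_num] at hs7
      exact (Nat.prime_dvd_prime_iff_eq hs Nat.prime_three).1 (hs.dvd_of_dvd_pow hs7)
    subst hs3
    intro h1
    rw [show 9 / 3 = 3 by norm_num] at h1
    exact hcc (by decide) (key 3 (by norm_num) (by push_cast; linear_combination h0 - ((q : ZMod r) ^ 3 + 2) * h1))
  · rw [cast_Ph12 _ hq] at h0
    refine prim_mk hr hq (by norm_num) (by
      linear_combination ((q : ZMod r) ^ 6 - 1) * ((q : ZMod r) ^ 2 + 1) * h0) fun s hs hs7 => ?_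
    rcases dvd_twelve hs hs7 with rfl | rfl
    · intro h1
      rw [show 12 / 2 = 6 by norm_num] at h1
      have h2 : r = 2 := key 2 Nat.prime_two (by
        push_cast; linear_combination ((q : ZMod r) ^ 2 + 1) * h0 - h1)
      subst h2
      revert h0; generalize (q : ZMod 2) = x; revert x; decide +kernel
    · intro h1
      rw [show 12 / 3 = 4 by norm_num] at h1
      have h2 : (q : ZMod r) ^ 2 = 2 := by linear_combination h1 - h0
      have h3 : r = 3 := key 3 Nat.prime_three (by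
        push_cast; linear_combination h1 - ((q : ZMod r) ^ 2 + 2) * h2)
      subst h3
      revert h0; generalize (q : ZMod 3) = x; revert x; decide +kernel
  · rw [cast_Ph14 _ hq] at h0
    refine prim_mk hr hq (by norm_num) (by
      linear_combination ((q : ZMod r) ^ 7 - 1) * ((q : ZMod r) + 1) * h0) fun s hs hs7 => ?_
    have hs3 : s = 2 ∨ s = 7 := by
      rw [show 14 = 2 * 7 by norm_num] at hs7
      rcases hs.dvd_mul.1 hs7 with h | h
      · exact Or.inl ((Nat.prime_dvd_prime_iff_eq hs Nat.prime_two).1 h)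
      · exact Or.inr ((Nat.prime_dvd_prime_iff_eq hs (by norm_num)).1 h)
    rcases hs3 with rfl | rfl
    · intro h1
      rw [show 14 / 2 = 7 by norm_num] at h1
      have h2 : r = 2 := key 2 Nat.prime_two (by
        push_cast; linear_combination ((q : ZMod r) + 1) * h0 - h1)
      subst h2
      revert h0; generalize (q : ZMod 2) = x; revert x; decide +kernel
    · intro h1
      rw [show 14 / 7 = 2 by norm_num] at h1
      refine hcc (by decide) (key 7 (by norm_num) ?_)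
      have h2 : 3 * (q : ZMod r) = 4 := by
        linear_combination -h0 + ((q : ZMod r) ^ 4 - (q : ZMod r) ^ 3 + 2 * (q : ZMod r) ^ 2 - 2 * (q : ZMod r) + 3) * h1
      push_cast
      linear_combination 9 * h1 - (3 * (q : ZMod r) + 4) * h2
  · rw [cast_Ph18 _ hq] at h0
    refine prim_mk hr hq (by norm_num) (by
      linear_combination ((q : ZMod r) ^ 9 - 1) * ((q : ZMod r) ^ 3 + 1) * h0) fun s hs hs7 => ?_
    have hs3 : s = 2 ∨ s = 3 := by
      rw [show 18 = 3 ^ 2 * 2 by norm_num] at hs7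
      rcases hs.dvd_mul.1 hs7 with h | h
      · exact Or.inr ((Nat.prime_dvd_prime_iff_eq hs Nat.prime_three).1 (hs.dvd_of_dvd_pow h))
      · exact Or.inl ((Nat.prime_dvd_prime_iff_eq hs Nat.prime_two).1 h)
    rcases hs3 with rfl | rfl
    · intro h1
      rw [show 18 / 2 = 9 by norm_num] at h1
      have h2 : r = 2 := key 2 Nat.prime_two (by
        push_cast; linear_combination ((q : ZMod r) ^ 3 + 1) * h0 - h1)
      subst h2
      revert h0; generalize (q : ZMod 2) = x; revert x; decide +kernel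
    · intro h1
      rw [show 18 / 3 = 6 by norm_num] at h1
      have h2 : (q : ZMod r) ^ 3 = 2 := by linear_combination h1 - h0
      exact hcc (by decide) (key 3 Nat.prime_three (by
        push_cast; linear_combination h1 - ((q : ZMod r) ^ 3 + 2) * h2))
  · rw [cast_Ph8] at h0
    refine prim_mk hr hq (by norm_num) (by linear_combination ((q : ZMod r) ^ 4 - 1) * h0) fun s hs hs7 => ?_
    have hs3 : s = 2 := by
      rw [show 8 = 2 ^ 3 by norm_num] at hs7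
      exact (Nat.prime_dvd_prime_iff_eq hs Nat.prime_two).1 (hs.dvd_of_dvd_pow hs7)
    subst hs3
    intro h1
    rw [show 8 / 2 = 4 by norm_num] at h1
    exact hcc (by decide) (key 2 Nat.prime_two (by push_cast; linear_combination h0 - h1))
  · rw [cast_Ph20 _ hq] at h0
    refine prim_mk hr hq (by norm_num) (by
      linear_combination ((q : ZMod r) ^ 10 - 1) * ((q : ZMod r) ^ 2 + 1) * h0) fun s hs hs7 => ?_
    have hs3 : s = 2 ∨ s = 5 := by
      rw [show 20 = 2 ^ 2 * 5 by norm_num] at hs7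
      rcases hs.dvd_mul.1 hs7 with h | h
      · exact Or.inl ((Nat.prime_dvd_prime_iff_eq hs Nat.prime_two).1 (hs.dvd_of_dvd_pow h))
      · exact Or.inr ((Nat.prime_dvd_prime_iff_eq hs (by norm_num)).1 h)
    rcases hs3 with rfl | rfl
    · intro h1
      rw [show 20 / 2 = 10 by norm_num] at h1
      have h2 : r = 2 := key 2 Nat.prime_two (by
        push_cast; linear_combination ((q : ZMod r) ^ 2 + 1) * h0 - h1)
      subst h2
      revert h0; generalize (q : ZMod 2) = x; revert x; decide +kernel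
    · intro h1
      rw [show 20 / 5 = 4 by norm_num] at h1
      have h2 : 2 * (q : ZMod r) ^ 2 = 3 := by
        linear_combination -h0 + ((q : ZMod r) ^ 4 - (q : ZMod r) ^ 2 + 2) * h1
      exact hcc (by decide) (key 5 (by norm_num) (by
        push_cast; linear_combination 4 * h1 - (2 * (q : ZMod r) ^ 2 + 3) * h2))
  · rw [cast_Ph24 _ hq] at h0
    refine prim_mk hr hq (by norm_num) (by
      linear_combination ((q : ZMod r) ^ 12 - 1) * ((q : ZMod r) ^ 4 + 1) * h0) fun s hs hs7 => ?_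
    have hs3 : s = 2 ∨ s = 3 := by
      rw [show 24 = 2 ^ 3 * 3 by norm_num] at hs7
      rcases hs.dvd_mul.1 hs7 with h | h
      · exact Or.inl ((Nat.prime_dvd_prime_iff_eq hs Nat.prime_two).1 (hs.dvd_of_dvd_pow h))
      · exact Or.inr ((Nat.prime_dvd_prime_iff_eq hs Nat.prime_three).1 h)
    rcases hs3 with rfl | rfl
    · intro h1
      rw [show 24 / 2 = 12 by norm_num] at h1
      have h2 : r = 2 := key 2 Nat.prime_two (by
        push_cast; linear_combination ((q : ZMod r) ^ 4 + 1) * h0 - h1)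
      subst h2
      revert h0; generalize (q : ZMod 2) = x; revert x; decide +kernel
    · intro h1
      rw [show 24 / 3 = 8 by norm_num] at h1
      have h2 : (q : ZMod r) ^ 4 = 2 := by linear_combination h1 - h0
      have h3 : r = 3 := key 3 Nat.prime_three (by
        push_cast; linear_combination h1 - ((q : ZMod r) ^ 4 + 2) * h2)
      subst h3
      revert h0; generalize (q : ZMod 3) = x; revert x; decide +kernel

/-- primitive primes divide the cyclotomic number -/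
theorem dvd_Ph {e : ℕ} (he : Cls e) (hq : 1 ≤ q) (h : Prim q e r) : r ∣ Ph e q := by
  have hF := Fact.mk h.prime
  have key : ∀ m : ℕ, (q : ZMod r) ^ m = 1 ↔ e ∣ m := by
    intro m
    have h1 : 1 ≤ q ^ m := Nat.one_le_pow _ _ hq
    rw [← h.dvd_iff, ← ZMod.natCast_eq_zero_iff, Nat.cast_sub h1, Nat.cast_pow, Nat.cast_one, sub_eq_zero]
  rw [← ZMod.natCast_eq_zero_iff]
  rcases he with rfl | rfl | rfl | rfl | rfl | rfl | rfl | rfl
  · rw [cast_Ph7]
    have h1 := (key 7).2 dvd_rfl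
    have h2 : (q : ZMod r) - 1 ≠ 0 := fun h0 => by
      have := (key 1).1 (by rw [pow_one]; exact sub_eq_zero.1 h0)
      omega
    apply mul_left_cancel₀ h2
    linear_combination h1
  · rw [cast_Ph9]
    have h1 := (key 9).2 dvd_rfl
    have h2 : (q : ZMod r) ^ 3 - 1 ≠ 0 := fun h0 => by
      have := (key 3).1 (sub_eq_zero.1 h0)
      omega
    apply mul_left_cancel₀ h2
    linear_combination h1
  · rw [cast_Ph12 _ hq]
    have h1 := (key 12).2 dvd_rfl
    have h2 : (q : ZMod r) ^ 6 - 1 ≠ 0 := fun h0 => by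
      have := (key 6).1 (sub_eq_zero.1 h0)
      omega
    have h3 : (q : ZMod r) ^ 2 + 1 ≠ 0 := fun h0 => by
      have := (key 4).1 (by linear_combination ((q : ZMod r) ^ 2 - 1) * h0)
      omega
    apply mul_left_cancel₀ (mul_ne_zero h2 h3)
    linear_combination h1
  · rw [cast_Ph14 _ hq]
    have h1 := (key 14).2 dvd_rfl
    have h2 : (q : ZMod r) ^ 7 - 1 ≠ 0 := fun h0 => by
      have := (key 7).1 (sub_eq_zero.1 h0)
      omega
    have h3 : (q : ZMod r) + 1 ≠ 0 := fun h0 => by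
      have := (key 2).1 (by linear_combination ((q : ZMod r) - 1) * h0)
      omega
    apply mul_left_cancel₀ (mul_ne_zero h2 h3)
    linear_combination h1
  · rw [cast_Ph18 _ hq]
    have h1 := (key 18).2 dvd_rfl
    have h2 : (q : ZMod r) ^ 9 - 1 ≠ 0 := fun h0 => by
      have := (key 9).1 (sub_eq_zero.1 h0)
      omega
    have h3 : (q : ZMod r) ^ 3 + 1 ≠ 0 := fun h0 => by
      have := (key 6).1 (by linear_combination ((q : ZMod r) ^ 3 - 1) * h0)
      omega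
    apply mul_left_cancel₀ (mul_ne_zero h2 h3)
    linear_combination h1
  · rw [cast_Ph8]
    have h1 := (key 8).2 dvd_rfl
    have h2 : (q : ZMod r) ^ 4 - 1 ≠ 0 := fun h0 => by
      have := (key 4).1 (sub_eq_zero.1 h0)
      omega
    apply mul_left_cancel₀ h2
    linear_combination h1
  · rw [cast_Ph20 _ hq]
    have h1 := (key 20).2 dvd_rfl
    have h2 : (q : ZMod r) ^ 10 - 1 ≠ 0 := fun h0 => by
      have := (key 10).1 (sub_eq_zero.1 h0)
      omega
    have h3 : (q : ZMod r) ^ 2 + 1 ≠ 0 := fun h0 => by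
      have := (key 4).1 (by linear_combination ((q : ZMod r) ^ 2 - 1) * h0)
      omega
    apply mul_left_cancel₀ (mul_ne_zero h2 h3)
    linear_combination h1
  · rw [cast_Ph24 _ hq]
    have h1 := (key 24).2 dvd_rfl
    have h2 : (q : ZMod r) ^ 12 - 1 ≠ 0 := fun h0 => by
      have := (key 12).1 (sub_eq_zero.1 h0)
      omega
    have h3 : (q : ZMod r) ^ 4 + 1 ≠ 0 := fun h0 => by
      have := (key 8).1 (by linear_combination ((q : ZMod r) ^ 4 - 1) * h0)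
      omega
    apply mul_left_cancel₀ (mul_ne_zero h2 h3)
    linear_combination h1

/-- the primitive primes are the primes of `ncl` -/
theorem dvd_ncl {e : ℕ} (he : Cls e) (hq : 1 ≤ q) (h : Prim q e r) : r ∣ ncl e q := by
  have h1 := dvd_Ph he hq h
  rw [← ncl_mul e q] at h1
  rcases h.prime.dvd_mul.1 h1 with h2 | h2
  · exact h2
  · exfalso
    -- `r = cc e` is not primitive: `e ∣ r - 1`
    have hF := Fact.mk h.prime
    have h3 : r ∣ cc e := h2.trans (Nat.gcd_dvd_left _ _)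
    have h4 : e ∣ r - 1 := by
      rw [← h.dvd_iff]
      have h5 : ((q : ZMod r)) ≠ 0 := by
        rw [Ne, ZMod.natCast_eq_zero_iff]
        exact h.not_dvd
      have h6 := ZMod.pow_card_sub_one_eq_one h5
      have h7 : 1 ≤ q ^ (r - 1) := Nat.one_le_pow _ _ hq
      rw [← ZMod.natCast_eq_zero_iff, Nat.cast_sub h7, Nat.cast_pow, Nat.cast_one, h6, sub_self]
    have h8 := h.prime.two_le
    have h9 := Nat.le_of_dvd (by omega) h4
    rcases he with rfl | rfl | rfl | rfl | rfl | rfl | rfl | rfl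
    · have h10 : r ≤ 7 := Nat.le_of_dvd (by decide) h3
      omega
    · have h10 : r ≤ 3 := Nat.le_of_dvd (by decide) h3
      omega
    · have h10 : r ≤ 1 := Nat.le_of_dvd (by decide) h3
      omega
    · have h10 : r ≤ 7 := Nat.le_of_dvd (by decide) h3
      omega
    · have h10 : r ≤ 3 := Nat.le_of_dvd (by decide) h3
      omega
    · have h10 : r ≤ 2 := Nat.le_of_dvd (by decide) h3
      omega
    · have h10 : r ≤ 5 := Nat.le_of_dvd (by decide) h3
      omega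
    · have h10 : r ≤ 1 := Nat.le_of_dvd (by decide) h3
      omega

/-- different classes are coprime -/
theorem ncl_coprime {e e' : ℕ} (he : Cls e) (he' : Cls e') (hq : 1 ≤ q) (hne : e ≠ e') :
    (ncl e q).Coprime (ncl e' q) := by
  refine Nat.Coprime.symm (Nat.coprime_of_dvd fun k hk h1 h2 => hne ?_)
  exact (prim_of_dvd he hq hk h2).unique (prim_of_dvd he' hq hk h1)

/-- lower bounds -/
theorem ncl_gt {e b : ℕ} (hc : cc e ≠ 0) (h : b * cc e < Ph e q) : b < ncl e q := by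
  have h1 := Ph_le e q hc
  exact Nat.lt_of_mul_lt_mul_right (h.trans_le h1)

/-- `q ≥ 3` -/
theorem Ph9_gt (hq : 3 ≤ q) : 3 * 133 < Ph 9 q := by
  have h1 : 3 ^ 6 ≤ q ^ 6 := Nat.pow_le_pow_left hq 6
  show 3 * 133 < q ^ 6 + q ^ 3 + 1
  omega

theorem Ph18_eq (hq : 1 ≤ q) : Ph 18 q = q ^ 3 * (q ^ 3 - 1) + 1 := by
  show (q ^ 6 + 1) - q ^ 3 = _
  have h1 : 1 ≤ q ^ 3 := Nat.one_le_pow _ _ hq
  have h2 : q ^ 6 = q ^ 3 * q ^ 3 := by ring
  obtain ⟨k, hk⟩ := Nat.exists_eq_add_of_le' h1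
  rw [h2, hk, Nat.add_sub_cancel]
  have h3 : (k + 1) * (k + 1) + 1 = (k + 1) * k + 1 + (k + 1) := by ring
  omega

theorem Ph18_gt (hq : 3 ≤ q) : 3 * 133 < Ph 18 q := by
  have h1 : 3 ^ 3 ≤ q ^ 3 := Nat.pow_le_pow_left hq 3
  rw [Ph18_eq (by omega)]
  have h2 : 27 * 26 ≤ q ^ 3 * (q ^ 3 - 1) := Nat.mul_le_mul (by omega) (by omega)
  omega

theorem Ph7_gt (hq : 3 ≤ q) : 7 * 133 < Ph 7 q := by
  have h1 : 3 ^ 6 ≤ q ^ 6 := Nat.pow_le_pow_left hq 6
  have h2 : 3 ^ 5 ≤ q ^ 5 := Nat.pow_le_pow_left hq 5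
  show 7 * 133 < q ^ 6 + q ^ 5 + q ^ 4 + q ^ 3 + q ^ 2 + q + 1
  omega

theorem Ph14_eq (hq : 1 ≤ q) : Ph 14 q = (q - 1) * (q ^ 5 + q ^ 3 + q) + 1 := by
  show (q ^ 6 + q ^ 4 + q ^ 2 + 1) - (q ^ 5 + q ^ 3 + q) = _
  obtain ⟨k, rfl⟩ := Nat.exists_eq_add_of_le' hq
  rw [Nat.add_sub_cancel]
  have h3 : (k + 1) ^ 6 + (k + 1) ^ 4 + (k + 1) ^ 2 + 1 = k * ((k + 1) ^ 5 + (k + 1) ^ 3 + (k + 1)) + 1 +
      ((k + 1) ^ 5 + (k + 1) ^ 3 + (k + 1)) := by ring
  omega

theorem Ph14_gt (hq : 4 ≤ q) : 7 * 133 < Ph 14 q := by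
  have h1 : 4 ^ 5 ≤ q ^ 5 := Nat.pow_le_pow_left hq 5
  rw [Ph14_eq (by omega)]
  have h2 : 3 * (4 ^ 5 + 0) ≤ (q - 1) * (q ^ 5 + q ^ 3 + q) := Nat.mul_le_mul (by omega) (by omega)
  omega

theorem ncl9_gt (hq : 3 ≤ q) : 133 < ncl 9 q := ncl_gt (by decide) (by have := Ph9_gt hq; simpa [cc, mul_comm] using this)

theorem ncl18_gt (hq : 3 ≤ q) : 133 < ncl 18 q := ncl_gt (by decide) (by have := Ph18_gt hq; simpa [cc, mul_comm] using this)

theorem ncl7_gt (hq : 3 ≤ q) : 133 < ncl 7 q := ncl_gt (by decide) (by have := Ph7_gt hq; simpa [cc, mul_comm] using this)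

theorem ncl14_gt (hq : 3 ≤ q) : 133 < ncl 14 q := by
  rcases eq_or_lt_of_le hq with rfl | h
  · decide +kernel
  · exact ncl_gt (by decide) (by have := Ph14_gt h; simpa [cc, mul_comm] using this)

/-- small values only -/
theorem Ph20_eq (hq : 1 ≤ q) : Ph 20 q = q ^ 6 * (q ^ 2 - 1) + q ^ 2 * (q ^ 2 - 1) + 1 := by
  show (q ^ 8 + q ^ 4 + 1) - (q ^ 6 + q ^ 2) = _
  have h1 : 1 ≤ q ^ 2 := Nat.one_le_pow _ _ hq
  obtain ⟨k, hk⟩ := Nat.exists_eq_add_of_le' h1
  have h2 : q ^ 8 = q ^ 6 * q ^ 2 := by ring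
  have h3 : q ^ 4 = q ^ 2 * q ^ 2 := by ring
  rw [h2, h3]
  generalize q ^ 6 = y
  rw [hk, Nat.add_sub_cancel]
  have h4 : y * (k + 1) + (k + 1) * (k + 1) + 1 = y * k + (k + 1) * k + 1 + (y + (k + 1)) := by ring
  omega

theorem Ph24_eq (hq : 1 ≤ q) : Ph 24 q = q ^ 4 * (q ^ 4 - 1) + 1 := by
  show (q ^ 8 + 1) - q ^ 4 = _
  have h1 : 1 ≤ q ^ 4 := Nat.one_le_pow _ _ hq
  have h2 : q ^ 8 = q ^ 4 * q ^ 4 := by ring
  obtain ⟨k, hk⟩ := Nat.exists_eq_add_of_le' h1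
  rw [h2, hk, Nat.add_sub_cancel]
  have h3 : (k + 1) * (k + 1) + 1 = (k + 1) * k + 1 + (k + 1) := by ring
  omega

theorem Ph12_eq (hq : 1 ≤ q) : Ph 12 q = q ^ 2 * (q ^ 2 - 1) + 1 := by
  show q ^ 4 - q ^ 2 + 1 = _
  have h1 : 1 ≤ q ^ 2 := Nat.one_le_pow _ _ hq
  have h2 : q ^ 4 = q ^ 2 * q ^ 2 := by ring
  obtain ⟨k, hk⟩ := Nat.exists_eq_add_of_le' h1
  rw [h2, hk, Nat.add_sub_cancel]
  have h3 : (k + 1) * (k + 1) = (k + 1) * k + (k + 1) := by ring
  omega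

theorem ncl12_eq (q : ℕ) : ncl 12 q = Ph 12 q := by
  unfold ncl
  rw [show cc 12 = 1 from rfl, Nat.gcd_one_left, Nat.div_one]

theorem ncl24_eq (q : ℕ) : ncl 24 q = Ph 24 q := by
  unfold ncl
  rw [show cc 24 = 1 from rfl, Nat.gcd_one_left, Nat.div_one]

theorem ncl12_gt (hq : 3 ≤ q) : 52 < ncl 12 q := by
  rw [ncl12_eq, Ph12_eq (by omega)]
  have h1 : 3 ^ 2 ≤ q ^ 2 := Nat.pow_le_pow_left hq 2
  have h2 : 9 * 8 ≤ q ^ 2 * (q ^ 2 - 1) := Nat.mul_le_mul (by omega) (by omega)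
  omega

theorem ncl24_gt (hq : 3 ≤ q) : 248 < ncl 24 q := by
  rw [ncl24_eq, Ph24_eq (by omega)]
  have h1 : 3 ^ 4 ≤ q ^ 4 := Nat.pow_le_pow_left hq 4
  have h2 : 81 * 80 ≤ q ^ 4 * (q ^ 4 - 1) := Nat.mul_le_mul (by omega) (by omega)
  omega

theorem le_seven12 (h : ncl 12 q ≤ 2701) : q ≤ 7 := by
  by_contra hq
  have h1 : 8 ^ 2 ≤ q ^ 2 := Nat.pow_le_pow_left (by omega) 2
  rw [ncl12_eq, Ph12_eq (by omega)] at h
  have h2 : 64 * 63 ≤ q ^ 2 * (q ^ 2 - 1) := Nat.mul_le_mul (by omega) (by omega)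
  omega

theorem le_seven20 (h : ncl 20 q ≤ 2701) : q ≤ 7 := by
  by_contra hq
  have h1 : 8 ^ 2 ≤ q ^ 2 := Nat.pow_le_pow_left (by omega) 2
  have h3 : 8 ^ 6 ≤ q ^ 6 := Nat.pow_le_pow_left (by omega) 6
  have h2 : 2701 < ncl 20 q := ncl_gt (by decide) (by
    show 2701 * 5 < Ph 20 q
    rw [Ph20_eq (by omega)]
    have h2 : 8 ^ 6 * 63 ≤ q ^ 6 * (q ^ 2 - 1) := Nat.mul_le_mul h3 (by omega)
    omega)
  omega

theorem le_four9 (h : ncl 9 q ≤ 2701) : q ≤ 4 := by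
  by_contra hq
  have h1 : 5 ^ 6 ≤ q ^ 6 := Nat.pow_le_pow_left (by omega) 6
  have h2 : 2701 < ncl 9 q := ncl_gt (by decide) (by
    show 2701 * 3 < q ^ 6 + q ^ 3 + 1
    omega)
  omega

theorem le_four18 (h : ncl 18 q ≤ 2701) : q ≤ 4 := by
  by_contra hq
  have h1 : 5 ^ 3 ≤ q ^ 3 := Nat.pow_le_pow_left (by omega) 3
  have h2 : 2701 < ncl 18 q := ncl_gt (by decide) (by
    show 2701 * 3 < Ph 18 q
    rw [Ph18_eq (by omega)]
    have h2 : 125 * 124 ≤ q ^ 3 * (q ^ 3 - 1) := Nat.mul_le_mul (by omega) (by omega)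
    omega)
  omega

end Cfsg.Agent.H563.KG
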