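import Cfsg.Agent.H563.KG.Named
import Cfsg.Agent.H563.KG.CycFix
import Cfsg.Agent.OrdDiv.Table
import Cfsg.Agent.S0000

/-!
# The K theorems without hypotheses (helper563)

For `hT : IsNamed (.e6 q) T` (`T` in any universe) and a subgroup `B` of `T` whose index is divisible by no primitive
prime divisor of the listed classes: `B = ⊤`. Classes: `full_e6` 9, 12; `full_te6` 18, 12; `full_e7a` 9, 14;
`full_e7b` 18, 7; `full_f4` 12, 8; `full_e8` 20, 24.
-/

set_option autoImplicit false

namespace Cfsg.Agent.H563.KG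

open Cfsg Cfsg.Agent.OrdDiv Cfsg.Agent.H436 Cfsg.Agent.H56.Exc

theorem cf : CF := fun _ _ _ _ => Cfsg.Agent.S0000.result

section

variable {T : Type*} [Group T] {q : ℕ} (B : Subgroup T)

theorem full_e6 (hT : IsNamed (.e6 q) T) (hoff : Off q [9, 12] B) : B = ⊤ := K_e6 table cycFixSolv cf B hT hoff

theorem full_te6 (hT : IsNamed (.te6 q) T) (hoff : Off q [18, 12] B) : B = ⊤ := K_te6 table cycFixSolv cf B hT hoff

theorem full_e7a (hT : IsNamed (.e7 q) T) (hoff : Off q [9, 14] B) : B = ⊤ := K_e7a table cycFixSolv cf B hT hoff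

theorem full_e7b (hT : IsNamed (.e7 q) T) (hoff : Off q [18, 7] B) : B = ⊤ := K_e7b table cycFixSolv cf B hT hoff

theorem full_f4 (hT : IsNamed (.f4 q) T) (hoff : Off q [12, 8] B) : B = ⊤ := K_f4 table cycFixSolv cf B hT hoff

theorem full_e8 (hT : IsNamed (.e8 q) T) (hoff : Off q [20, 24] B) : B = ⊤ := K_e8 table cycFixSolv cf B hT hoff

end

end Cfsg.Agent.H563.KG
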