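import Cfsg.Agent.H563.KG.Row
import Cfsg.Agent.H563.KG.Full

/-!
# Coprime orbits: the rows `E₆(q)`, `²E₆(q)`, `E₇(q)` (S4175, helper563)

`row_E6`, `row_E7`, `row_TE6`.
-/

set_option autoImplicit false

namespace Cfsg.Agent.H563.KG

open Cfsg Cfsg.Agent.OrdDiv Cfsg.Agent.H436 Cfsg.Agent.H56.Exc Cfsg.Agent.H505.Cop

/-- **`E₆(q)`** -/
theorem row_E6 {S : Type*} [Group S] (h : Lie.IsoChevE6 S) : CopRow S := by
  obtain ⟨F, _, _, ⟨e⟩⟩ := h
  exact copRow_of_index_equiv' e (index_E6 table cycFixSolv cf)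

/-- **`E₇(q)`** -/
theorem row_E7 {S : Type*} [Group S] (h : Lie.IsoE7 S) : CopRow S := by
  obtain ⟨F, _, _, ⟨e⟩⟩ := h
  exact copRow_of_index_equiv' e (index_E7 table cycFixSolv cf)

/-- **`²E₆(q)`** -/
theorem row_TE6 {S : Type*} [Group S] (h : Lie.Iso2E6 S) : CopRow S := by
  obtain ⟨F, _, _, q, hq, hK, ⟨e⟩⟩ := h
  exact copRow_of_index_equiv' e (index_TE6 table cycFixSolv cf hq hK)

end Cfsg.Agent.H563.KG
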