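import Cfsg.Agent.H563.KG.KTE6
import Cfsg.Agent.H563.KG.KE7
import Cfsg.Agent.H505.Cop.Red
import Cfsg.Agent.H505.Cop.E67Row
import Cfsg.Agent.H976.Cop.TwE6Par

/-!
# Coprime orbits: the rows `E₆(q)`, `²E₆(q)`, `E₇(q)` (S4175, helper563)

No two proper subgroups have coprime indices: one of them contains a Sylow `p`-subgroup up to the parabolic argument of
helper505 and helper976, so that the index of the other one is prime to two classes of tori, and `K_E6` etc. apply.
-/

set_option autoImplicit false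

namespace Cfsg.Agent.H563.KG

open Cfsg Cfsg.Agent.OrdDiv Cfsg.Agent.H436 Cfsg.Agent.H56.Exc Cfsg.Agent.H505.Cop

theorem copRow_of_index_equiv' {S : Type*} [Group S] {G : Type*} [Group G] (e : S ≃* G)
    (h : ∀ A B : Subgroup G, A.index.Coprime B.index → A = ⊤ ∨ B = ⊤) : CopRow S := by
  apply copRow_of_index
  intro A B hcop
  have key : ∀ X : Subgroup S, (X.map e.toMonoidHom).index = X.index := fun X => Subgroup.index_map_equiv X e
  rcases h (A.map e.toMonoidHom) (B.map e.toMonoidHom) (by rw [key, key]; exact hcop) with h1 | h1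
  · left
    rw [← Subgroup.index_eq_one] at h1 ⊢
    rwa [key] at h1
  · right
    rw [← Subgroup.index_eq_one] at h1 ⊢
    rwa [key] at h1

variable (tb : OrderTable.{0}) (hcyc : CycFixSolv.{0}) (hcf : CF)

include tb hcyc hcf

theorem index_E6 {F : Type} [Field F] [Fintype F] (A B : Subgroup ↥(Lie.chevE6.group F))
    (h : A.index.Coprime B.index) : A = ⊤ ∨ B = ⊤ := by
  have key : ∀ X : Subgroup ↥(Lie.chevE6.group F), Off6 (Fintype.card F) X → X = ⊤ := by
    intro X hX
    refine K_E6 tb hcyc hcf X fun e he r hr => hX e r ?_ hr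
    have : e = 9 ∨ e = 12 := by simpa using he
    omega
  rcases par_e6 A B h with h1 | h1 | h1 | h1
  · exact Or.inl h1
  · exact Or.inr h1
  · exact Or.inl (key A h1)
  · exact Or.inr (key B h1)

theorem index_E7 {F : Type} [Field F] [Fintype F] (A B : Subgroup ↥(Lie.chevE7.group F))
    (h : A.index.Coprime B.index) : A = ⊤ ∨ B = ⊤ := by
  have key : ∀ X : Subgroup ↥(Lie.chevE7.group F), Off7 (Fintype.card F) X → X = ⊤ := by
    rintro X ⟨hX, h7 | h9⟩
    · refine K_E7b tb hcyc hcf X fun e he r hr => ?_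
      have : e = 18 ∨ e = 7 := by simpa using he
      rcases this with rfl | rfl
      · exact hX 18 r (by omega) hr
      · exact h7 r hr
    · refine K_E7a tb hcyc hcf X fun e he r hr => ?_
      have : e = 9 ∨ e = 14 := by simpa using he
      rcases this with rfl | rfl
      · exact h9 r hr
      · exact hX 14 r (by omega) hr
  rcases par_e7 A B h with h1 | h1 | h1 | h1
  · exact Or.inl h1
  · exact Or.inr h1
  · exact Or.inl (key A h1)
  · exact Or.inr (key B h1)

theorem index_TE6 {F : Type} [Field F] [Fintype F] {q : ℕ} (hq : IsPrimePow q) (hK : Fintype.card F = q ^ 2)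
    (A B : Subgroup ↥(Lie.twistedE6 F q)) (h : A.index.Coprime B.index) : A = ⊤ ∨ B = ⊤ := by
  have key : ∀ X : Subgroup ↥(Lie.twistedE6 F q),
      (∀ e r, (e = 3 ∨ e = 6 ∨ e = 12 ∨ e = 18) → Prim q e r → ¬ r ∣ X.index) → X = ⊤ := by
    intro X hX
    refine K_TE6 tb hcyc hcf hq hK X fun e he r hr => hX e r ?_ hr
    have : e = 18 ∨ e = 12 := by simpa using he
    omega
  rcases Cfsg.Agent.H976.TwE6Par.index_par hq hK A B h with h1 | h1 | h1 | h1
  · exact Or.inl h1
  · exact Or.inr h1
  · exact Or.inl (key A h1)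
  · exact Or.inr (key B h1)

end Cfsg.Agent.H563.KG
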